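import Cfsg.Agent.FGS.AutFrattini

/-!
The automorphism group of an elementary abelian group of order nine has order dividing forty-eight.
-/

set_option autoImplicit false

namespace Cfsg.Agent.ThreeWreath

open Subgroup

theorem card_mulAut_nine {G : Type*} [Group G] [Finite G] (M : Subgroup G) (h9 : Nat.card M = 9)
    (hel : ∀ m ∈ M, m ^ 3 = 1) : Nat.card (MulAut M) ∣ 48 := by
  have : Fact (Nat.Prime 3) := ⟨Nat.prime_three⟩
  have hcube : ∀ x : M, x ^ 3 = 1 := fun x => Subtype.ext (hel x.1 x.2)
  have hfr : frattini M = ⊥ := by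
    rw [eq_bot_iff]
    intro x hx
    rw [mem_bot]
    by_contra hx1
    obtain ⟨y, hy⟩ : ∃ y, y ∉ zpowers x := by
      by_contra h
      push Not at h
      have : zpowers x = ⊤ := eq_top_iff.2 fun y _ => h y
      have h2 := Nat.card_zpowers x
      rw [this, card_top, h9, orderOf_eq_prime (hcube x) hx1] at h2
      omega
    have hy1 : y ≠ 1 := fun e => hy (e ▸ one_mem _)
    have hc3 : Nat.card (zpowers y) = 3 := by rw [Nat.card_zpowers, orderOf_eq_prime (hcube y) hy1]
    have hyM : IsCoatom (zpowers y) := by
      refine ⟨fun e => ?_, fun K hK => ?_⟩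
      · rw [e, card_top, h9] at hc3; omega
      · have hd := card_subgroup_dvd_card K
        rw [h9] at hd
        obtain ⟨i, hi, he⟩ := (Nat.dvd_prime_pow Nat.prime_three).1 (show Nat.card K ∣ 3 ^ 2 from hd)
        interval_cases i
        · exact absurd (eq_bot_of_card_eq K (by simpa using he)) (ne_bot_of_gt hK)
        · exact absurd (eq_of_le_of_card_ge hK.le (by rw [hc3, he]; norm_num)) hK.ne
        · exact eq_top_of_card_eq K (by rw [he, h9]; norm_num)
    have hxy : x ∈ zpowers y := frattini_le_coatom hyM hx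
    have heq : zpowers x = zpowers y := eq_of_le_of_card_ge (zpowers_le.2 hxy) (by
      rw [hc3, Nat.card_zpowers, orderOf_eq_prime (hcube x) hx1])
    exact hy (heq ▸ mem_zpowers y)
  have h := FGS.card_mulAut_dvd (P := M) (p := 3) (n := 2) (r := 2) (by rw [h9]; norm_num)
    (by rw [hfr, index_bot, h9]; norm_num)
  simpa [Finset.prod_range_succ] using h

end Cfsg.Agent.ThreeWreath
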