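import Cfsg.Agent.ThreeWreath.Model
import Mathlib.GroupTheory.NoncommCoprod
import Mathlib.GroupTheory.SpecificGroups.Dihedral

/-!
# The configuration from a dihedral group of order eight acting on the Sylow subgroup
-/

set_option autoImplicit false

namespace Cfsg.Agent.ThreeWreath

open Subgroup

universe u

variable {G : Type u} [Group G]

theorem mem_order_three {a y : G} (ha : a ^ 3 = 1) (hy : y ∈ zpowers a) :
    y = 1 ∨ y = a ∨ y = a⁻¹ := by
  obtain ⟨i, rfl⟩ := hy
  have e3 : a ^ (3 : ℤ) = 1 := by rw [show (3 : ℤ) = ((3 : ℕ) : ℤ) from rfl, zpow_natCast, ha]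
  show a ^ i = 1 ∨ a ^ i = a ∨ a ^ i = a⁻¹
  rw [← Int.emod_add_ediv_mul i 3, mul_comm, zpow_add, zpow_mul, e3, one_zpow, mul_one]
  have h3 : i % 3 = 0 ∨ i % 3 = 1 ∨ i % 3 = 2 := by omega
  rcases h3 with e | e | e <;> rw [e]
  · left; simp
  · right; left; simp
  · right; right
    rw [eq_inv_iff_mul_eq_one, ← zpow_add_one]
    exact e3

/-- The data from which a configuration is built. -/
structure Gens (T : Sylow 3 G) (t w : G) : Prop where
  comm : ∀ x ∈ (T : Subgroup G), ∀ y ∈ (T : Subgroup G), x * y = y * x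
  cube : ∀ x ∈ (T : Subgroup G), x ^ 3 = 1
  card : Nat.card (T : Subgroup G) = 9
  cent : centralizer ((T : Subgroup G) : Set G) = T
  loc : ∀ x ∈ (T : Subgroup G), x ≠ 1 →
    centralizer ({x} : Set G) ≤ normalizer ((T : Subgroup G) : Set G)
  card_N : Nat.card (normalizer ((T : Subgroup G) : Set G)) = 72
  tN : t ∈ normalizer ((T : Subgroup G) : Set G)
  wN : w ∈ normalizer ((T : Subgroup G) : Set G)
  t_sq : t * t = 1
  w_sq : w * w = 1
  four : ((t * w) * (t * w)) * ((t * w) * (t * w)) = 1
  two : (t * w) * (t * w) ≠ 1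

theorem Gens.swap {T : Sylow 3 G} {t w : G} (h : Gens T t w) : Gens T w t := by
  have hz : w * t = (t * w)⁻¹ := by
    rw [mul_inv_rev, inv_eq_of_mul_eq_one_right h.t_sq, inv_eq_of_mul_eq_one_right h.w_sq]
  refine ⟨h.comm, h.cube, h.card, h.cent, h.loc, h.card_N, h.wN, h.tN, h.w_sq, h.t_sq, ?_, ?_⟩
  · rw [hz, ← mul_inv_rev, ← mul_inv_rev, h.four, inv_one]
  · rw [hz, ← mul_inv_rev]
    exact fun e => h.two (inv_eq_one.1 e)

variable [Finite G] {T : Sylow 3 G} {t w : G}

/-- **The configuration.** -/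
theorem Gens.exists_cfg (h : Gens T t w) :
    ∃ φ : M1 →* G, Cfg T φ ∧ φ gA = t ∧ φ gW = w ∧ φ gC = (t * w) * (t * w) := by
  classical
  set z := (t * w) * (t * w) with hz
  set N := normalizer ((T : Subgroup G) : Set G)
  have hzN : z ∈ N := N.mul_mem (N.mul_mem h.tN h.wN) (N.mul_mem h.tN h.wN)
  have hz2 : z * z = 1 := h.four
  have hzi : z⁻¹ = z := inv_eq_of_mul_eq_one_right hz2
  have hti : t⁻¹ = t := inv_eq_of_mul_eq_one_right h.t_sq
  have hwi : w⁻¹ = w := inv_eq_of_mul_eq_one_right h.w_sq
  have hconj : ∀ g ∈ N, ∀ x ∈ (T : Subgroup G), g * x * g⁻¹ ∈ (T : Subgroup G) :=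
    fun g hg x hx => (mem_normalizer_iff.1 hg x).1 hx
  have hfaith : ∀ g ∈ N, g * g = 1 → (∀ x ∈ (T : Subgroup G), g * x * g⁻¹ = x) → g = 1 := by
    intro g _ hg hfix
    have hgT : g ∈ (T : Subgroup G) := h.cent ▸ mem_centralizer_iff.2 fun x hx => by
      have := hfix x hx
      calc x * g = g * x * g⁻¹ * g := by rw [this]
        _ = g * x := by group
    have h3 := h.cube g hgT
    rwa [pow_succ, sq, hg, one_mul] at h3
  have hcomm_z : ∀ g : G, g = t * w → g * z = z * g := by rintro g rfl; simp only [hz, mul_assoc]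
  have hzt : z * t = t * z := by
    calc z * t = t * (t⁻¹ * (t * w * t * w) * t) := by rw [hz]; group
      _ = t * z⁻¹ := by
        rw [hz]; congr 1
        simp only [mul_inv_rev, hti, hwi, mul_assoc]
        rw [← mul_assoc t t, h.t_sq, one_mul]
      _ = t * z := by rw [hzi]
  -- `z` inverts `T`
  have hzinv : ∀ x ∈ (T : Subgroup G), z * x * z = x⁻¹ := by
    let Cf : Subgroup G := (T : Subgroup G) ⊓ centralizer ({z} : Set G)
    let Iv : Subgroup G :=
      { carrier := {x | x ∈ (T : Subgroup G) ∧ z * x * z = x⁻¹}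
        one_mem' := ⟨one_mem _, by simp [hz2]⟩
        mul_mem' := fun {x y} hx hy => ⟨mul_mem hx.1 hy.1, by
          calc z * (x * y) * z = z * x * (z * z) * y * z := by rw [hz2]; group
            _ = (z * x * z) * (z * y * z) := by group
            _ = (x * y)⁻¹ := by rw [hx.2, hy.2, h.comm _ hx.1 _ hy.1]; group⟩
        inv_mem' := fun {x} hx => ⟨inv_mem hx.1, by
          calc z * x⁻¹ * z = (z⁻¹ * x * z⁻¹)⁻¹ := by group
            _ = (x⁻¹)⁻¹ := by rw [hzi, hx.2]⟩ }
    have hIv : ∀ x, x ∈ Iv ↔ x ∈ (T : Subgroup G) ∧ z * x * z = x⁻¹ := fun x => Iff.rfl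
    have hsplit : ∀ x ∈ (T : Subgroup G), x * (z * x * z) ∈ Cf := by
      intro x hx
      have hzx : z * x * z ∈ (T : Subgroup G) := by simpa [hzi] using hconj z hzN x hx
      refine ⟨mul_mem hx hzx, mem_centralizer_singleton_iff.2 ?_⟩
      calc x * (z * x * z) * z = z * x * z * x * z := by rw [h.comm _ hx _ hzx]
        _ = z * (x * (z * x * z)) := by group
    have hCI : ∀ y, y ∈ Cf → y ∈ Iv → y = 1 := by
      intro y hy hy'
      have h1 := mem_centralizer_singleton_iff.1 hy.2
      have h2 : y = y⁻¹ := by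
        rw [← hy'.2, ← h1, mul_assoc, hz2, mul_one]
      have h3 := h.cube y hy.1
      rwa [pow_succ, sq, mul_eq_one_iff_eq_inv.2 h2, one_mul] at h3
    by_cases hI : Iv = ⊥
    · exfalso
      refine h.two (hfaith z hzN hz2 fun x hx => ?_)
      have hx' : z * x * z ∈ (T : Subgroup G) := by simpa [hzi] using hconj z hzN x hx
      have h1 : x⁻¹ * (z * x * z) ∈ Iv := by
        refine ⟨mul_mem (inv_mem hx) hx', ?_⟩
        rw [h.comm _ (inv_mem hx) _ hx']
        calc z * (z * x * z * x⁻¹) * z = (z * z) * x * (z * x⁻¹ * z) := by group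
          _ = x * (z⁻¹ * x⁻¹ * z⁻¹) := by rw [hz2, one_mul, hzi]
          _ = _ := by group
      rw [hI, mem_bot, inv_mul_eq_one] at h1
      rw [hzi]; exact h1.symm
    by_cases hC : Cf = ⊥
    · intro x hx
      have := hsplit x hx
      rw [hC, mem_bot] at this
      exact eq_inv_of_mul_eq_one_right this
    exfalso
    obtain ⟨y, hy, hy1⟩ := (bot_or_exists_ne_one Iv).resolve_left hI
    have hcard3 : Nat.card Iv = 3 := by
      have hlt : Iv < (T : Subgroup G) := by
        refine lt_of_le_of_ne (fun a ha => ha.1) fun e => ?_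
        obtain ⟨c, hc, hc1⟩ := (bot_or_exists_ne_one Cf).resolve_left hC
        exact hc1 (hCI c hc (e ▸ hc.1))
      have hd := card_dvd_of_le hlt.le
      rw [h.card] at hd
      rcases (Nat.dvd_prime_pow Nat.prime_three).1 (show Nat.card Iv ∣ 3 ^ 2 from hd) with ⟨i, hi, e⟩
      interval_cases i
      · exact absurd (eq_bot_of_card_eq Iv e) hI
      · exact e
      · exact absurd (eq_of_le_of_card_ge hlt.le (by rw [h.card, e]; norm_num)) hlt.ne
    have hgen : Iv = zpowers y := by
      refine (eq_of_le_of_card_ge (zpowers_le.2 hy) ?_).symm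
      rw [hcard3, Nat.card_zpowers, orderOf_eq_prime (h.cube y hy.1) hy1]
    have hg : (t * w) * y * (t * w)⁻¹ ∈ Iv := by
      refine ⟨hconj _ (N.mul_mem h.tN h.wN) y hy.1, ?_⟩
      calc z * (t * w * y * (t * w)⁻¹) * z = (z * (t * w)) * y * (z⁻¹ * (t * w))⁻¹ := by group
        _ = ((t * w) * z) * y * ((t * w) * z)⁻¹ := by rw [hzi, hcomm_z _ rfl]
        _ = (t * w) * (z * y * z) * (t * w)⁻¹ := by rw [mul_inv_rev, hzi]; group
        _ = _ := by rw [hy.2]; group
    have hne : (t * w) * y * (t * w)⁻¹ ≠ 1 := fun e => hy1 (conj_eq_one_iff.1 e)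
    rw [hgen] at hg
    have key : z * y * z = y := by
      have h' : z * y * z⁻¹ = y := by
        rcases mem_order_three (h.cube y hy.1) hg with e | e | e
        · exact absurd e hne
        · calc z * y * z⁻¹ = (t * w) * ((t * w) * y * (t * w)⁻¹) * (t * w)⁻¹ := by rw [hz]; group
            _ = y := by rw [e, e]
        · calc z * y * z⁻¹ = (t * w) * ((t * w) * y * (t * w)⁻¹) * (t * w)⁻¹ := by rw [hz]; group
            _ = ((t * w) * y * (t * w)⁻¹)⁻¹ := by
              conv_lhs => rw [e]
              group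
            _ = y := by rw [e, inv_inv]
      rwa [hzi] at h'
    have h2 : y = y⁻¹ := key.symm.trans hy.2
    refine hy1 ?_
    have h3 := h.cube y hy.1
    rwa [pow_succ, sq, mul_eq_one_iff_eq_inv.2 h2, one_mul] at h3
  -- the fixed point of `t`
  have hz1 : z ≠ 1 := h.two
  have ht1 : t ≠ 1 := by
    intro e
    refine h.two ?_
    rw [e, one_mul]; exact h.w_sq
  obtain ⟨e, he, he1, hte⟩ : ∃ e ∈ (T : Subgroup G), e ≠ 1 ∧ t * e * t = e := by
    by_contra hno
    push Not at hno
    have hinvT : ∀ x ∈ (T : Subgroup G), t * x * t = x⁻¹ := by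
      intro x hx
      have hx' : t * x * t ∈ (T : Subgroup G) := by simpa [hti] using hconj t h.tN x hx
      refine eq_inv_of_mul_eq_one_right ?_
      by_contra hne
      refine hno _ (mul_mem hx hx') hne ?_
      calc t * (x * (t * x * t)) * t = (t * x * t) * x * (t * t) := by group
        _ = x * (t * x * t) := by rw [h.t_sq, mul_one, h.comm _ hx' _ hx]
    have htzC : ∀ x ∈ (T : Subgroup G), (t * z) * x * (t * z)⁻¹ = x := by
      intro x hx
      calc t * z * x * (t * z)⁻¹ = t * (z * x * z⁻¹) * t⁻¹ := by group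
        _ = x := by rw [hzi, hti, hzinv x hx, hinvT _ (inv_mem hx), inv_inv]
    have htz : t * z = 1 := by
      have htzT : t * z ∈ (T : Subgroup G) := h.cent ▸ mem_centralizer_iff.2 fun x hx => by
        calc x * (t * z) = (t * z) * x * (t * z)⁻¹ * (t * z) := by rw [htzC x hx]
          _ = t * z * x := by group
      have h3 := h.cube _ htzT
      have h5 : (t * z) * (t * z) = 1 := by
        calc (t * z) * (t * z) = t * (z * t) * z := by group
          _ = (t * t) * (z * z) := by rw [hzt]; group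
          _ = 1 := by rw [h.t_sq, hz2, one_mul]
      rwa [pow_succ, sq, h5, one_mul] at h3
    have htw : t = z := by rw [eq_inv_of_mul_eq_one_left htz, hzi]
    have hzw : w * z = z * w := by
      have h1 := hcomm_z _ rfl
      rw [htw] at h1
      exact mul_left_cancel (a := z) (by rw [← mul_assoc, h1])
    apply h.two
    rw [htw]
    calc z * w * (z * w) = z * (w * z) * w := by group
      _ = (z * z) * (w * w) := by rw [hzw]; group
      _ = 1 := by rw [hz2, h.w_sq, one_mul]
  set s := w * t * w with hs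
  have hsz : s = t * z := by
    rw [hs, hz]
    calc w * t * w = (t * t) * (w * t * w) := by rw [h.t_sq, one_mul]
      _ = t * (t * w * (t * w)) := by group
  have hts : t * s = s * t := by
    calc t * s = z := by rw [hsz, ← mul_assoc, h.t_sq, one_mul]
      _ = z⁻¹ := hzi.symm
      _ = (t * s)⁻¹ := by rw [hsz, ← mul_assoc, h.t_sq, one_mul]
      _ = s * t := by rw [mul_inv_rev, hti, hs, mul_inv_rev, mul_inv_rev, hwi, hti]; group
  have hs2 : s * s = 1 := by
    calc s * s = w * t * (w * w) * t * w := by rw [hs]; group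
      _ = w * (t * t) * w := by rw [h.w_sq]; group
      _ = 1 := by rw [h.t_sq, mul_one, h.w_sq]
  have hse : s * e * s = e⁻¹ := by
    rw [hsz]
    calc t * z * e * (t * z) = t * z * e * (z * t) := congrArg (t * z * e * ·) hzt.symm
      _ = t * (z * e * z) * t := by group
      _ = (t⁻¹ * e * t⁻¹)⁻¹ := by rw [hzinv e he]; group
      _ = e⁻¹ := by rw [hti, hte]
  set f := w * e * w with hf
  have hfT : f ∈ (T : Subgroup G) := by simpa [hwi, hf] using hconj w h.wN e he
  have hf3 : f ^ 3 = 1 := h.cube f hfT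
  have hf1 : f ≠ 1 := fun e' => he1 (by
    have : w * e * w⁻¹ = 1 := by rw [hwi]; exact e'
    exact conj_eq_one_iff.1 this)
  have htf : t * f * t = f⁻¹ := by
    calc t * f * t = (w * w) * t * w * e * w * t * (w * w) := by rw [hf, h.w_sq]; group
      _ = w * (s * e * s) * w := by rw [hs]; group
      _ = (w⁻¹ * e * w⁻¹)⁻¹ := by rw [hse]; group
      _ = f⁻¹ := by rw [hwi, hf]
  have hsf : s * f * s = f := by
    calc s * f * s = w * (t * (w * w) * e * (w * w) * t) * w := by rw [hs, hf]; group
      _ = f := by rw [h.w_sq, mul_one, mul_one, hte, hf]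
  have he3 : e ^ 3 = 1 := h.cube e he
  have hcomm : ∀ x y, Commute (ThreeKlein.dihHom e s he3 hs2 hse x)
      (ThreeKlein.dihHom f t hf3 h.t_sq htf y) := by
    have c1 : Commute e f := h.comm e he f hfT
    have c2 : Commute s t := hts.symm
    have c3 : Commute e t := by
      show e * t = t * e
      calc e * t = (t * e * t) * t := by rw [hte]
        _ = t * e := by rw [mul_assoc, h.t_sq, mul_one]
    have c4 : Commute s f := by
      show s * f = f * s
      calc s * f = s * f * (s * s) := by rw [hs2, mul_one]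
        _ = (s * f * s) * s := by group
        _ = f * s := by rw [hsf]
    intro x y
    rcases x with i | i <;> rcases y with j | j
    · exact c1.pow_pow _ _
    · exact (c3.mul_right (c1.pow_right _)).pow_left _
    · exact (c4.mul_left (c1.pow_left _)).pow_right _
    · exact (c2.mul_right (c4.pow_right _)).mul_left ((c3.mul_right (c1.pow_right _)).pow_left _)
  let φ₀ : ThreeKlein.M0 →* G := MonoidHom.noncommCoprod (ThreeKlein.dihHom e s he3 hs2 hse)
    (ThreeKlein.dihHom f t hf3 h.t_sq htf) hcomm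
  have hdih : ∀ x, w * ThreeKlein.dihHom e s he3 hs2 hse x * w⁻¹ =
      ThreeKlein.dihHom f t hf3 h.t_sq htf x := by
    have e1 : MulAut.conj w e = f := by simp [hf, hwi]
    have e2 : MulAut.conj w s = t := by
      simp only [MulAut.conj_apply, hwi, hs]
      calc w * (w * t * w) * w = (w * w) * t * (w * w) := by group
        _ = t := by rw [h.w_sq, one_mul, mul_one]
    rintro (i | i)
    · show MulAut.conj w (e ^ i.val) = f ^ i.val
      rw [map_pow, e1]
    · show MulAut.conj w (s * e ^ i.val) = t * f ^ i.val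
      rw [map_mul, map_pow, e1, e2]
  have hswap : ∀ m : ThreeKlein.M0, φ₀ (m.2, m.1) = w * φ₀ m * w⁻¹ := by
    intro m
    have h2 : w * ThreeKlein.dihHom f t hf3 h.t_sq htf m.2 * w⁻¹ =
        ThreeKlein.dihHom e s he3 hs2 hse m.2 := by
      rw [← hdih, hwi]
      calc w * (w * _ * w) * w = (w * w) * ThreeKlein.dihHom e s he3 hs2 hse m.2 * (w * w) := by group
        _ = _ := by rw [h.w_sq, one_mul, mul_one]
    simp only [φ₀, MonoidHom.noncommCoprod_apply]
    rw [conj_mul.symm, hdih, h2]
    exact (hcomm m.2 m.1).eq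
  let fg : Multiplicative (ZMod 2) →* G := MonoidHom.mk' (fun k => if k = 1 then 1 else w) (by
    intro a b
    have ha : a = 1 ∨ a = Multiplicative.ofAdd 1 := by revert a; decide +kernel
    have hb : b = 1 ∨ b = Multiplicative.ofAdd 1 := by revert b; decide +kernel
    rcases ha with rfl | rfl <;> rcases hb with rfl | rfl <;>
      simp [show (Multiplicative.ofAdd (1 : ZMod 2)) ≠ 1 by decide +kernel, h.w_sq,
        show (Multiplicative.ofAdd (1 : ZMod 2)) * Multiplicative.ofAdd 1 = 1 by decide +kernel])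
  have hlift : ∀ g, φ₀.comp (swapHom g).toMonoidHom = (MulAut.conj (fg g)).toMonoidHom.comp φ₀ := by
    intro g
    refine MonoidHom.ext fun m => ?_
    show φ₀ (swapHom g m) = fg g * φ₀ m * (fg g)⁻¹
    by_cases hg : g = 1
    · simp [hg]
    · simp only [swapHom, fg, MonoidHom.coe_mk, OneHom.coe_mk, MonoidHom.mk'_apply, if_neg hg]
      exact hswap m
  let φ : M1 →* G := SemidirectProduct.lift φ₀ fg hlift
  have hd := fun (a A : G) (ha : a ^ 3 = 1) (hA : A * A = 1) (hAa : A * a * A = a⁻¹) =>
    ThreeKlein.dihHom_r (a := a) (A := A) (ha := ha) (hA := hA) (hAa := hAa)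
  have hga : φ gA = t := by
    simp only [φ, gA, SemidirectProduct.lift_inl, φ₀, MonoidHom.noncommCoprod_apply, map_one, one_mul]
    exact (hd f t hf3 h.t_sq htf).2
  have hgW : φ gW = w := by
    simp only [φ, gW, SemidirectProduct.lift_inr, fg, MonoidHom.mk'_apply]
    exact if_neg (by decide +kernel)
  have hgC : φ gC = z := by
    have : gC = gA * (gW * gA * gW) := by decide +kernel
    rw [this]
    simp only [map_mul, hga, hgW]
    rw [hz]; group
  have hge : φ ga = e := by
    simp only [φ, ga, SemidirectProduct.lift_inl, φ₀, MonoidHom.noncommCoprod_apply, map_one, mul_one]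
    exact (hd e s he3 hs2 hse).1
  have hgf : φ (gW * ga * gW) = f := by simp only [map_mul, hgW, hge, hf]
  have hTeq : zpowers e ⊔ zpowers f = (T : Subgroup G) := by
    refine eq_of_le_of_card_ge (sup_le (zpowers_le.2 he) (zpowers_le.2 hfT)) ?_
    by_contra hlt
    rw [not_le, h.card] at hlt
    have hd' := card_dvd_of_le (sup_le (zpowers_le.2 he) (zpowers_le.2 hfT))
    rw [h.card] at hd'
    rcases (Nat.dvd_prime_pow Nat.prime_three).1
      (show Nat.card (zpowers e ⊔ zpowers f : Subgroup G) ∣ 3 ^ 2 from hd') with ⟨i, hi, ei⟩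
    have : zpowers e = zpowers e ⊔ zpowers f := eq_of_le_of_card_ge le_sup_left (by
      rw [ei, Nat.card_zpowers, orderOf_eq_prime he3 he1]
      interval_cases i <;> first | (norm_num; done) | omega)
    have hfe : f ∈ zpowers e := this ▸ mem_sup_right (mem_zpowers f)
    obtain ⟨j, hj⟩ := hfe
    have : t * f * t = f := by
      rw [← hj]
      calc t * e ^ j * t = MulAut.conj t (e ^ j) := by simp [hti]
        _ = (t * e * t) ^ j := by rw [map_zpow]; simp [hti]
        _ = e ^ j := by rw [hte]
    have h2 : f = f⁻¹ := this.symm.trans htf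
    rw [pow_succ, sq, mul_eq_one_iff_eq_inv.2 h2, one_mul] at hf3
    exact hf1 hf3
  have hrange : φ.range = N := by
    have hle : φ.range ≤ N := by
      rintro _ ⟨m, rfl⟩
      obtain ⟨x, y⟩ := m.left
      have hTN : (T : Subgroup G) ≤ N := le_normalizer
      have hsN : s ∈ N := N.mul_mem (N.mul_mem h.wN h.tN) h.wN
      rw [← SemidirectProduct.inl_left_mul_inr_right m]
      simp only [φ, map_mul, SemidirectProduct.lift_inl, SemidirectProduct.lift_inr, φ₀,
        MonoidHom.noncommCoprod_apply]
      have hd2 : ∀ (a A : G) (ha : a ^ 3 = 1) (hA : A * A = 1) (hAa : A * a * A = a⁻¹), a ∈ N →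
          A ∈ N → ∀ x, ThreeKlein.dihHom a A ha hA hAa x ∈ N := by
        intro a A ha hA hAa haN hAN x
        rcases x with i | i
        · exact N.pow_mem haN _
        · exact N.mul_mem hAN (N.pow_mem haN _)
      refine N.mul_mem (N.mul_mem (hd2 _ _ _ _ _ (hTN he) hsN _) (hd2 _ _ _ _ _ (hTN hfT) h.tN _)) ?_
      simp only [fg, MonoidHom.mk'_apply]
      split_ifs
      · exact N.one_mem
      · exact h.wN
    have hTr : (T : Subgroup G) ≤ φ.range := by
      rw [← hTeq]
      exact sup_le (zpowers_le.2 ⟨ga, hge⟩) (zpowers_le.2 ⟨_, hgf⟩)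
    have h9 : 9 ∣ Nat.card φ.range := h.card ▸ card_dvd_of_le hTr
    have h8 : 8 ∣ Nat.card φ.range := by
      have hr : t * w ∈ φ.range := ⟨gA * gW, by rw [map_mul, hga, hgW]⟩
      have hr4 : orderOf (t * w) = 4 := by
        refine orderOf_eq_prime_pow (p := 2) (n := 1) ?_ ?_
        · rw [pow_one, sq]; exact h.two
        · rw [show 2 ^ (1 + 1) = 2 + 2 from rfl, pow_add, sq]; exact h.four
      let D : Subgroup G := zpowers (t * w) ⊔ zpowers t
      have hD : D ≤ φ.range := sup_le (zpowers_le.2 hr) (zpowers_le.2 ⟨gA, hga⟩)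
      have hlt : zpowers (t * w) < D := by
        refine lt_of_le_of_ne le_sup_left fun e' => ?_
        have htmem : t ∈ zpowers (t * w) := e' ▸ mem_sup_right (mem_zpowers t)
        obtain ⟨j, hj⟩ := htmem
        change (t * w) ^ j = t at hj
        have hc : t * (t * w) = (t * w) * t := by
          have := (Commute.zpow_self (t * w) j).eq
          rwa [hj] at this
        refine h.two ?_
        calc t * w * (t * w) = (t * w * t) * w := by group
          _ = (t * (t * w)) * w := by rw [hc]
          _ = (t * t) * (w * w) := by group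
          _ = 1 := by rw [h.t_sq, h.w_sq, one_mul]
      have h8' : 4 ∣ Nat.card D ∧ Nat.card D ≠ 4 := by
        refine ⟨hr4 ▸ Nat.card_zpowers (t * w) ▸ card_dvd_of_le le_sup_left, fun e4 => hlt.ne ?_⟩
        exact eq_of_le_of_card_ge le_sup_left (by rw [e4, Nat.card_zpowers, hr4])
      have hDN : Nat.card D ∣ 72 := h.card_N ▸ card_dvd_of_le (hD.trans hle)
      obtain ⟨⟨k, hk⟩, hne4⟩ := h8'
      rw [hk] at hDN hne4
      have hk18 : k ∣ 18 := Nat.dvd_of_mul_dvd_mul_left (by norm_num : 0 < 4) hDN
      by_cases hk2 : 2 ∣ k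
      · obtain ⟨j, rfl⟩ := hk2
        exact (Dvd.intro j (by rw [← hk.symm.trans rfl]; ring : 8 * j = Nat.card D)).trans
          (card_dvd_of_le hD)
      · exfalso
        have hk9 : k ∣ 9 := by
          refine Nat.Coprime.dvd_of_dvd_mul_left ((Nat.prime_two.coprime_iff_not_dvd.2 hk2).symm) ?_
          exact hk18
        obtain ⟨i, hi, rfl⟩ := (Nat.dvd_prime_pow Nat.prime_three).1 (show k ∣ 3 ^ 2 from hk9)
        have hi1 : 1 ≤ i := by
          rcases Nat.eq_zero_or_pos i with rfl | h'
          · simp at hne4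
          · exact h'
        have hnorm : t * (t * w) * t⁻¹ = (t * w)⁻¹ := by
          rw [mul_inv_rev, hti, hwi, ← mul_assoc, h.t_sq, one_mul]
        have htn : zpowers t ≤ normalizer ((zpowers (t * w) : Subgroup G) : Set G) := by
          rw [zpowers_le]
          refine mem_normalizer_fintype fun n hn => ?_
          obtain ⟨j, rfl⟩ := hn
          show t * (t * w) ^ j * t⁻¹ ∈ zpowers (t * w)
          rw [← conj_zpow, hnorm]
          exact zpow_mem (inv_mem (mem_zpowers _)) _
        have hcard2 : Nat.card D ≤ 8 := by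
          have hmem : ∀ x ∈ D, ∃ a ∈ zpowers (t * w), ∃ b : Fin 2, a * t ^ (b : ℕ) = x := by
            intro x hx
            rw [← SetLike.mem_coe, coe_mul_of_right_le_normalizer_left _ _ htn] at hx
            obtain ⟨a, ha, b, ⟨j, rfl⟩, rfl⟩ := hx
            rcases Int.even_or_odd j with ⟨l, rfl⟩ | ⟨l, rfl⟩
            · refine ⟨a, ha, 0, ?_⟩
              show a * t ^ 0 = a * t ^ (l + l)
              rw [pow_zero, ← two_mul, zpow_mul, show t ^ (2 : ℤ) = 1 by rw [zpow_two, h.t_sq], one_zpow]
            · refine ⟨a, ha, 1, ?_⟩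
              show a * t ^ 1 = a * t ^ (2 * l + 1)
              rw [pow_one, zpow_add, zpow_mul, show t ^ (2 : ℤ) = 1 by rw [zpow_two, h.t_sq],
                one_zpow, one_mul, zpow_one]
          choose a ha b hb using hmem
          calc Nat.card D ≤ Nat.card (zpowers (t * w) × Fin 2) :=
                Nat.card_le_card_of_injective (fun x : D => (⟨a x x.2, ha x x.2⟩, b x x.2)) fun x y e => by
                  have e1 := congrArg (fun p => (p.1 : G) * t ^ (p.2 : ℕ)) e
                  exact Subtype.ext (by simpa [hb] using e1)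
            _ = 8 := by rw [Nat.card_prod, Nat.card_zpowers, hr4, Nat.card_fin]
        rw [hk] at hcard2
        have : 3 ≤ 3 ^ i := Nat.le_self_pow (by omega) 3
        omega
    refine eq_of_le_of_card_ge hle (h.card_N.le.trans (Nat.le_of_dvd Nat.card_pos ?_))
    exact Nat.Coprime.mul_dvd_of_dvd_of_dvd (show Nat.Coprime 8 9 by norm_num) h8 h9
  have hinj : Function.Injective φ := by
    have hs : Nat.card M1 = Nat.card φ.range := by
      rw [hrange, h.card_N, Nat.card_eq_fintype_card, card_M1]
    exact (MonoidHom.rangeRestrict_injective_iff).1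
      ((Function.Surjective.bijective_of_nat_card_le φ.rangeRestrict_surjective hs.le).1)
  refine ⟨φ, ⟨hinj, hrange, fun m => ?_, h.cent, fun x hx hx1 => hrange ▸ h.loc x hx hx1⟩,
    hga, hgW, hgC⟩
  constructor
  · intro hm
    exact (inT_cube m).1 (hinj (by rw [map_pow, h.cube _ hm, map_one]))
  · intro hm
    have hgen : ∀ m : M1, inT m = true →
        ∃ i j : Fin 3, ga ^ (i : ℕ) * (gW * ga * gW) ^ (j : ℕ) = m := by decide +kernel
    obtain ⟨i, j, rfl⟩ := hgen m hm
    rw [map_mul, map_pow, map_pow, hge, hgf]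
    exact mul_mem (pow_mem he _) (pow_mem hfT _)

end Cfsg.Agent.ThreeWreath
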