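import Cfsg.Agent.ThreeWreath.Model
import Cfsg.Agent.ThreeKlein.Six
import Cfsg.Agent.Char.Linear
import Cfsg.Agent.CharArith.Basic

/-!
# Column orthogonality and pairs of involutions with special product
-/

set_option autoImplicit false

namespace Cfsg.Agent.ThreeWreath

open Cfsg.Agent Subgroup
open scoped ComplexConjugate

universe u

variable {G : Type u} [Group G] [Fintype G] {T : Sylow 3 G} {φ : M1 →* G}

/-- The column of a special element against any element. -/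
theorem Cfg.col_sum (h : Cfg T φ) (j : Fin 4) (f : Cfsg.IrrCharacter G → ℤ)
    (hf : ∀ χ : Cfsg.IrrCharacter G, (χ : G → ℂ) (φ (col j)) = f χ) (g : G)
    [Decidable (IsConj (φ (col j)) g)] :
    ∑ χ : Cfsg.IrrCharacter G, (f χ : ℂ) * (χ : G → ℂ) g =
      if IsConj (φ (col j)) g then
        ((Finset.univ.filter fun m : M1 => m * col j = col j * m).card : ℂ) else 0 := by
  have hcol := congrArg conj (Char.second_orthogonality (φ (col j)) g)
  rw [map_sum] at hcol
  refine (Eq.trans ?_ hcol).trans ?_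
  · refine Finset.sum_congr rfl fun χ _ => ?_
    simp [hf]
  · rw [h.card_cent (col_inD j)]
    split_ifs <;> simp

/-- Pairs in the classes of two involutions with a given special product, weighted. -/
theorem Cfg.pair_sum (h : Cfg T φ) (j : Fin 4) (f : Cfsg.IrrCharacter G → ℤ)
    (hf : ∀ χ : Cfsg.IrrCharacter G, (χ : G → ℂ) (φ (col j)) = f χ) {u u' : G}
    (hu : u * u = 1) (hu' : u' * u' = 1) (p q : M1 → Bool)
    (hp : ∀ m, p m = true ↔ IsConj u (φ m)) (hq : ∀ m, q m = true ↔ IsConj u' (φ m)) :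
    ∑ χ : Cfsg.IrrCharacter G, (f χ : ℂ) * ((χ : G → ℂ) u * (χ : G → ℂ) u' / (χ : G → ℂ) 1) =
      ((Finset.univ.filter fun m : M1 => p m && q (m * col j)).card : ℂ) *
        ((Nat.card (centralizer ({u} : Set G)) : ℂ) * Nat.card (centralizer ({u'} : Set G))) /
          Nat.card G := by
  classical
  set z := φ (col j)
  set k := (Finset.univ.filter fun m : M1 => m * col j = col j * m).card
  have hk : Nat.card (centralizer ({z} : Set G)) = k := h.card_cent (col_inD j)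
  have hG : (Nat.card G : ℂ) ≠ 0 := Char.card_ne_zero
  have e1 : ∀ χ : Cfsg.IrrCharacter G, (χ : G → ℂ) u * (χ : G → ℂ) u' / (χ : G → ℂ) 1 =
      (Nat.card G : ℂ)⁻¹ * ∑ g, (χ : G → ℂ) (g * u * g⁻¹ * u') := fun χ => by
    have h1 := Char.IsIrr.one_ne_zero χ.2
    have h2 := CharArith.classMult χ.2 u u'
    field_simp
    linear_combination -h2
  simp only [e1, mul_left_comm ((f _ : ℤ) : ℂ) (Nat.card G : ℂ)⁻¹, ← Finset.mul_sum]
  simp only [Finset.mul_sum]
  rw [Finset.sum_comm]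
  simp only [← Finset.mul_sum, h.col_sum j f hf]
  rw [← Finset.sum_filter, Finset.sum_const, nsmul_eq_mul]
  set H := Finset.univ.filter fun g : G => IsConj z (g * u * g⁻¹ * u')
  -- conjugating the target to `z`
  let P := {x : G × G // x.1 * u * x.1⁻¹ * (x.2 * u' * x.2⁻¹) = z}
  have h1 : H.card * k = Nat.card P := by
    have c : ∀ g : {g : G // g ∈ H}, ∃ b : G, b * z * b⁻¹ = g.1 * u * g.1⁻¹ * u' := fun g => by
      obtain ⟨b, hb⟩ := isConj_iff.1 (Finset.mem_filter.1 g.2).2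
      exact ⟨b, hb⟩
    choose b hb using c
    rw [← hk, ← Fintype.card_coe, ← Nat.card_eq_fintype_card, ← Nat.card_prod]
    refine Nat.card_eq_of_bijective (fun x : {g : G // g ∈ H} × centralizer ({z} : Set G) =>
      (⟨((b x.1 * x.2)⁻¹ * x.1.1, (b x.1 * x.2)⁻¹), ?_⟩ : P)) ⟨?_, ?_⟩
    · have hc := mem_centralizer_singleton_iff.1 x.2.2
      calc (b x.1 * x.2)⁻¹ * x.1.1 * u * ((b x.1 * x.2)⁻¹ * x.1.1)⁻¹ *
            ((b x.1 * x.2)⁻¹ * u' * (b x.1 * x.2)⁻¹⁻¹) =
          (x.2 : G)⁻¹ * ((b x.1)⁻¹ * (x.1.1 * u * x.1.1⁻¹ * u') * b x.1) * x.2 := by group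
        _ = (x.2 : G)⁻¹ * (z * x.2) := by rw [← hb]; group
        _ = z := by rw [← hc]; group
    · rintro ⟨g, c⟩ ⟨g', c'⟩ e
      have e2 : (b g * c)⁻¹ = (b g' * c')⁻¹ := congrArg (fun x : P => x.1.2) e
      have e3 : (b g * c)⁻¹ * g.1 = (b g' * c')⁻¹ * g'.1 := congrArg (fun x : P => x.1.1) e
      rw [e2] at e3
      have hg : g = g' := Subtype.ext (mul_left_cancel e3)
      subst hg
      exact Prod.ext rfl (Subtype.ext (mul_left_cancel (inv_injective e2)))
    · rintro ⟨⟨x, y⟩, hxy⟩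
      have hg : y⁻¹ * x ∈ H := Finset.mem_filter.2 ⟨Finset.mem_univ _, isConj_iff.2 ⟨y⁻¹, by
        rw [← hxy]; group⟩⟩
      refine ⟨(⟨_, hg⟩, ⟨(b ⟨_, hg⟩)⁻¹ * y⁻¹, mem_centralizer_singleton_iff.2 ?_⟩), Subtype.ext ?_⟩
      · have e4 : b ⟨_, hg⟩ * z * (b ⟨_, hg⟩)⁻¹ = y⁻¹ * z * y := by
          rw [hb, ← hxy]; group
        calc (b ⟨_, hg⟩)⁻¹ * y⁻¹ * z = (b ⟨_, hg⟩)⁻¹ * (y⁻¹ * z * y) * y⁻¹ := by group
          _ = _ := by rw [← e4]; group
      · exact Prod.ext (by simp) (by simp)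
  -- counting inside the model
  set S := Finset.univ.filter fun m : M1 => p m && q (m * col j)
  have h2 : Nat.card P = S.card *
      (Nat.card (centralizer ({u} : Set G)) * Nat.card (centralizer ({u'} : Set G))) := by
    have hm : ∀ m ∈ S, IsConj u (φ m) ∧ IsConj u' (φ (m * col j)) := fun m hm => by
      simpa [S, Bool.and_eq_true, hp, hq] using hm
    have c : ∀ m : {m : M1 // m ∈ S}, ∃ a b : G, a * u * a⁻¹ = φ m.1 ∧
        b * u' * b⁻¹ = φ (m.1 * col j) := fun m => by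
      obtain ⟨a, ha⟩ := isConj_iff.1 (hm m.1 m.2).1
      obtain ⟨b, hb⟩ := isConj_iff.1 (hm m.1 m.2).2
      exact ⟨a, b, ha, hb⟩
    choose a b ha hb using c
    rw [← Fintype.card_coe, ← Nat.card_eq_fintype_card, ← Nat.card_prod, ← Nat.card_prod]
    have hC : ∀ (v g : G) (x : centralizer ({v} : Set G)),
        g * x * v * (g * (x : G))⁻¹ = g * v * g⁻¹ := fun v g x => by
      rw [mul_assoc g (x : G) v, mem_centralizer_singleton_iff.1 x.2]; group
    have hcan : ∀ (v g g' : G), g * v * g⁻¹ = g' * v * g'⁻¹ → g⁻¹ * g' ∈ centralizer ({v} : Set G) :=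
      fun v g g' e => mem_centralizer_singleton_iff.2 (by
        calc g⁻¹ * g' * v = g⁻¹ * (g' * v * g'⁻¹) * g' := by group
          _ = g⁻¹ * (g * v * g⁻¹) * g' := by rw [e]
          _ = _ := by group)
    have hsq : ∀ m ∈ S, m * m = 1 := fun m hm' => h.inj (by
      obtain ⟨g, hg⟩ := isConj_iff.1 (hm m hm').1
      rw [map_mul, map_one, ← hg]
      calc g * u * g⁻¹ * (g * u * g⁻¹) = g * (u * u) * g⁻¹ := by group
        _ = 1 := by rw [hu]; group)
    refine (Nat.card_eq_of_bijective (fun x : {m : M1 // m ∈ S} × (centralizer ({u} : Set G) ×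
      centralizer ({u'} : Set G)) => (⟨(a x.1 * x.2.1, b x.1 * x.2.2), ?_⟩ : P)) ⟨?_, ?_⟩).symm
    · rw [hC, hC, ha, hb, ← map_mul, ← mul_assoc, hsq _ x.1.2, one_mul]
    · rintro ⟨m, x, y⟩ ⟨m', x', y'⟩ e
      have e1 : a m * x = a m' * x' := congrArg (fun z : P => z.1.1) e
      have e2 : b m * y = b m' * y' := congrArg (fun z : P => z.1.2) e
      have hmm : m = m' := Subtype.ext (h.inj (by rw [← ha, ← ha m', ← hC u (a m) x, e1, hC]))
      subst hmm
      exact Prod.ext rfl (Prod.ext (Subtype.ext (mul_left_cancel e1)) (Subtype.ext (mul_left_cancel e2)))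
    · rintro ⟨⟨g, g'⟩, hgg⟩
      change g * u * g⁻¹ * (g' * u' * g'⁻¹) = z at hgg
      have hi2 : g * u * g⁻¹ * (g * u * g⁻¹) = 1 := by
        calc g * u * g⁻¹ * (g * u * g⁻¹) = g * (u * u) * g⁻¹ := by group
          _ = 1 := by rw [hu]; group
      have hj : g' * u' * g'⁻¹ = g * u * g⁻¹ * z := by rw [← hgg, ← mul_assoc, hi2, one_mul]
      have hj2 : g' * u' * g'⁻¹ * (g' * u' * g'⁻¹) = 1 := by
        calc g' * u' * g'⁻¹ * (g' * u' * g'⁻¹) = g' * (u' * u') * g'⁻¹ := by group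
          _ = 1 := by rw [hu']; group
      obtain ⟨m, hm'⟩ := h.fusD (g := g * u * g⁻¹) (col_inD j) (inD_inv _ (col_inD j)) (by
        rw [map_inv]
        calc g * u * g⁻¹ * z * (g * u * g⁻¹)⁻¹ = g' * u' * g'⁻¹ * (g * u * g⁻¹)⁻¹ := by rw [hj]
          _ = z⁻¹ := by
            rw [← hgg, mul_inv_rev (g * u * g⁻¹), inv_eq_of_mul_eq_one_right hi2,
              inv_eq_of_mul_eq_one_right hj2])
      have hmS : m ∈ S := by
        simp only [S, Finset.mem_filter, Finset.mem_univ, true_and, Bool.and_eq_true, hp, hq]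
        exact ⟨isConj_iff.2 ⟨g, hm'.symm⟩, isConj_iff.2 ⟨g', by rw [hj, map_mul, hm']⟩⟩
      refine ⟨(⟨m, hmS⟩, ⟨(a ⟨m, hmS⟩)⁻¹ * g, hcan _ _ _ (by rw [ha, hm'])⟩,
        ⟨(b ⟨m, hmS⟩)⁻¹ * g', hcan _ _ _ (by rw [hb, map_mul, hm', hj])⟩), Subtype.ext ?_⟩
      exact Prod.ext (by simp) (by simp)
  have h3 : (H.card : ℂ) * k = (S.card : ℂ) *
      ((Nat.card (centralizer ({u} : Set G)) : ℂ) * Nat.card (centralizer ({u'} : Set G))) := by
    exact_mod_cast h1.trans h2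
  rw [eq_div_iff hG, ← h3]
  field_simp
  simp [k]

end Cfsg.Agent.ThreeWreath
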