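import Cfsg.Agent.ThreeWreath.Arith
import Cfsg.Agent.ThreeWreath.Build
import Cfsg.Agent.ThreeWreath.Count

/-!
# A group with this configuration is not simple
-/

set_option autoImplicit false

namespace Cfsg.Agent.ThreeWreath

open Cfsg.Agent Subgroup

universe u

variable {G : Type u} [Group G] [Fintype G]

/-- In a simple group only the principal character takes its degree at a nontrivial element. -/
theorem eq_one_of_ker [IsSimpleGroup G] (χ : Cfsg.IrrCharacter G) {g : G} (hg : g ≠ 1)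
    (h : (χ : G → ℂ) g = (χ : G → ℂ) 1) : (χ : G → ℂ) = fun _ => 1 := by
  set hc := Char.IsIrr.isCharacter χ.2
  rcases (Char.kerSubgroup_normal hc).eq_bot_or_eq_top with e | e
  · exact absurd (mem_bot.1 (e ▸ h : g ∈ (⊥ : Subgroup G))) hg
  have hall : ∀ x ∈ (⊤ : Subgroup G), (χ : G → ℂ) x = (χ : G → ℂ) 1 := fun x hx => by
    rw [← e] at hx; exact hx
  obtain ⟨φ, hφ, hφe⟩ := Char.IsIrr.exists_quotient ⊤ χ.2 hall
  have : Subsingleton (G ⧸ (⊤ : Subgroup G)) := QuotientGroup.subsingleton_quotient_top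
  funext x
  rw [hφe x, Subsingleton.elim (QuotientGroup.mk x : G ⧸ (⊤ : Subgroup G)) 1,
    Char.IsIrr.degree_one_of_comm hφ fun _ _ => Subsingleton.elim _ _]

/-- In a non-abelian simple group only the principal character is linear. -/
theorem eq_one_of_degree [IsSimpleGroup G] (hna : ∃ a b : G, a * b ≠ b * a)
    (χ : Cfsg.IrrCharacter G) (h : (χ : G → ℂ) 1 = 1) : (χ : G → ℂ) = fun _ => 1 := by
  obtain ⟨f, hf⟩ := Char.IsChar.exists_hom (Char.IsIrr.isCharacter χ.2) h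
  obtain ⟨a, b, hab⟩ := hna
  refine eq_one_of_ker χ (g := a * b * a⁻¹ * b⁻¹) (fun e => hab ?_) ?_
  · calc a * b = (a * b * a⁻¹ * b⁻¹) * (b * a) := by group
      _ = b * a := by rw [e, one_mul]
  · rw [hf]
    simp

variable {T : Sylow 3 G} {φ : M1 →* G}

/-- The numerical data: integer values and the bilinear identities. -/
theorem Cfg.exists_data (h : Cfg T φ) :
    ∃ (o : Cfsg.IrrCharacter G) (d A B R S : Cfsg.IrrCharacter G → ℤ)
      (v : Fin 3 → Cfsg.IrrCharacter G → ℤ),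
      (o : G → ℂ) = (fun _ => 1) ∧ Cols o A B R S ∧ d o = 1 ∧ (∀ i, v i o = 1) ∧ (∀ χ, d χ ≠ 0) ∧
      (∀ χ : Cfsg.IrrCharacter G, (χ : G → ℂ) 1 = d χ) ∧
      (∀ i (χ : Cfsg.IrrCharacter G), (χ : G → ℂ) (φ (rep i)) = v i χ) ∧
      (∀ χ, (3 : ℤ) ∣ d χ - A χ ∧ (3 : ℤ) ∣ v 0 χ - R χ ∧ (3 : ℤ) ∣ v 1 χ - S χ) ∧
      ∀ j : Fin 4, ∀ f : Cfsg.IrrCharacter G → ℤ,
        f = (match j with | 0 => A | 1 => B | 2 => R | 3 => S) →
          (∑ χ, f χ * d χ = 0) ∧ (∀ i, ∑ χ, f χ * v i χ = 0) ∧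
          ∀ i k (p q : Fin 4 → Bool), (∀ m, p (ty m) = true ↔ IsConj (φ (rep i)) (φ m)) →
            (∀ m, q (ty m) = true ↔ IsConj (φ (rep k)) (φ m)) →
            ∑ χ, (f χ : ℚ) * ((v i χ : ℚ) * v k χ / d χ) = (cnt p q (col j) : ℚ) *
              ((Nat.card (centralizer ({φ (rep i)} : Set G)) : ℚ) *
                Nat.card (centralizer ({φ (rep k)} : Set G))) / Nat.card G := by
  classical
  obtain ⟨p1, p2, p3, p4, p5, p6, p7, p8⟩ := col_pow
  have hreal : ∀ j, IsConj (φ (col j)) (φ (col j))⁻¹ := fun j => by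
    rw [← map_inv]; exact isConj_map φ (col_real j)
  have hsix : ∀ χ : Cfsg.IrrCharacter G, ∃ d A B R S v₀ v₁ : ℤ, (χ : G → ℂ) 1 = d ∧
      (χ : G → ℂ) (φ ga) = A ∧ (χ : G → ℂ) (φ gb) = B ∧ (χ : G → ℂ) (φ gR) = R ∧
      (χ : G → ℂ) (φ gS) = S ∧ (χ : G → ℂ) (φ gA) = v₀ ∧ (χ : G → ℂ) (φ gW) = v₁ ∧
      3 ∣ d - A ∧ 3 ∣ v₀ - R ∧ 2 ∣ A - R ∧ 3 ∣ d - B ∧ 3 ∣ v₁ - S ∧ 2 ∣ B - S := by
    intro χ
    obtain ⟨d, v₀, A, R, a1, a2, a3, a4, a5, a6, a7⟩ := ThreeKlein.six_values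
      (Char.IsIrr.isCharacter χ.2) (x := φ gR) (by rw [← map_pow, show gR = col 2 from rfl, col_six, map_one])
      (hreal 2)
    obtain ⟨d', v₁, B, S, b1, b2, b3, b4, b5, b6, b7⟩ := ThreeKlein.six_values
      (Char.IsIrr.isCharacter χ.2) (x := φ gS) (by rw [← map_pow, show gS = col 3 from rfl, col_six, map_one])
      (hreal 3)
    rw [← map_pow, p3] at a2
    rw [← map_pow, p5] at a3
    rw [← map_pow, p4] at b2
    rw [← map_pow, p6] at b3
    have hd : d' = d := by exact_mod_cast b1.symm.trans a1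
    subst hd
    exact ⟨d', A, B, R, S, v₀, v₁, a1, a3, b3, a4, b4, a2, b2, a5, a6, a7, b5, b6, b7⟩
  choose d A B R S v₀ v₁ hd hA hB hR hS hv₀ hv₁ c1 c2 c3 c4 c5 c6 using hsix
  have hint : ∀ (i : Fin 3) (χ : Cfsg.IrrCharacter G), ∃ v : ℤ, (χ : G → ℂ) (φ (rep i)) = v := fun i χ => by
    obtain ⟨hu, -⟩ := rep_inv i
    have hu' : φ (rep i) * φ (rep i) = 1 := by rw [← map_mul, hu, map_one]
    obtain ⟨-, w, -, -, -, hw, -, -, -, -, -⟩ := ThreeKlein.six_values (Char.IsIrr.isCharacter χ.2)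
      (x := φ (rep i)) (by rw [show (6 : ℕ) = 2 * 3 from rfl, pow_mul, sq, hu', one_pow])
      (by rw [inv_eq_of_mul_eq_one_right hu'])
    exact ⟨w, by rw [← hw, pow_succ, sq, hu', one_mul]⟩
  choose v hv using hint
  have hvR : ∀ χ, (3 : ℤ) ∣ v 0 χ - R χ ∧ (3 : ℤ) ∣ v 1 χ - S χ := fun χ => by
    have e0 : v 0 χ = v₀ χ := by exact_mod_cast (hv 0 χ).symm.trans (hv₀ χ)
    have e1 : v 1 χ = v₁ χ := by exact_mod_cast (hv 1 χ).symm.trans (hv₁ χ)
    exact ⟨e0 ▸ c2 χ, e1 ▸ c5 χ⟩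
  let F : Fin 4 → Cfsg.IrrCharacter G → ℤ := fun j => match j with | 0 => A | 1 => B | 2 => R | 3 => S
  have hF : ∀ j (χ : Cfsg.IrrCharacter G), (χ : G → ℂ) (φ (col j)) = F j χ := by
    intro j χ
    fin_cases j
    · exact hA χ
    · exact hB χ
    · exact hR χ
    · exact hS χ
  have horth : ∀ i j, ∑ χ, F i χ * F j χ = if i = j then
      ((Finset.univ.filter fun m : M1 => m * col i = col i * m).card : ℤ) else 0 := by
    intro i j
    have := h.col_sum i (F i) (hF i) (φ (col j))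
    simp only [hF j] at this
    by_cases hij : i = j
    · subst hij
      rw [if_pos (IsConj.refl _)] at this
      rw [if_pos rfl]
      exact_mod_cast this
    · rw [if_neg (h.col_conj hij)] at this
      rw [if_neg hij]
      exact_mod_cast this
  let o : Cfsg.IrrCharacter G := ⟨fun _ => 1, Char.isIrrCharacter_one⟩
  have hone : ∀ {a : ℤ} (g : G), (o : G → ℂ) g = a → a = 1 := fun {a} g e => by
    exact_mod_cast (show (a : ℂ) = 1 from e.symm)
  refine ⟨o, d, A, B, R, S, v, rfl, ?_, hone 1 (hd o), fun i => hone _ (hv i o), fun χ e => ?_, hd, hv,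
    fun χ => ⟨c1 χ, hvR χ⟩, fun j f hf => ?_⟩
  · exact
    { oA := hone _ (hA o), oB := hone _ (hB o), oR := hone _ (hR o), oS := hone _ (hS o)
      AA := (horth 0 0).trans (by rw [if_pos rfl, col_card]; rfl)
      BB := (horth 1 1).trans (by rw [if_pos rfl, col_card]; rfl)
      RR := (horth 2 2).trans (by rw [if_pos rfl, col_card]; rfl)
      SS := (horth 3 3).trans (by rw [if_pos rfl, col_card]; rfl)
      AB := horth 0 1, AR := horth 0 2, AS := horth 0 3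
      BR := horth 1 2, BS := horth 1 3, RS := horth 2 3
      hAB := fun χ => by have := c1 χ; have := c4 χ; omega
      hAR := c3, hBS := c6 }
  · exact Char.IsIrr.one_ne_zero χ.2 (by rw [hd, e, Int.cast_zero])
  have hfF : f = F j := hf
  subst hfF
  have hne : ∀ g : G, g * g = 1 → ¬ IsConj (φ (col j)) g := by
    intro g hg e
    obtain ⟨x, hx⟩ := isConj_iff.1 e
    refine (inD_pow _ (col_inD j)).2.2 (h.inj ?_)
    rw [map_mul, map_one]
    calc φ (col j) * φ (col j) = x⁻¹ * (x * φ (col j) * x⁻¹ * (x * φ (col j) * x⁻¹)) * x := by group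
      _ = 1 := by rw [hx, hg]; group
  refine ⟨?_, fun i => ?_, fun i k p q hp hq => ?_⟩
  · have := h.col_sum j (F j) (hF j) 1
    rw [if_neg (hne 1 (one_mul 1))] at this
    simp only [hd] at this
    exact_mod_cast this
  · have := h.col_sum j (F j) (hF j) (φ (rep i))
    rw [if_neg (hne _ (by rw [← map_mul, (rep_inv i).1, map_one]))] at this
    simp only [hv] at this
    exact_mod_cast this
  · have := h.pair_sum j (F j) (hF j) (u := φ (rep i)) (u' := φ (rep k))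
      (by rw [← map_mul, (rep_inv i).1, map_one]) (by rw [← map_mul, (rep_inv k).1, map_one])
      (fun m => p (ty m)) (fun m => q (ty m)) hp hq
    simp only [hv, hd] at this
    apply (Rat.cast_injective : Function.Injective (Rat.cast : ℚ → ℂ))
    push_cast
    exact this

/-- The combination `(aA + bB + rR + sS)/6`. -/
theorem Cfg.exists_comb (h : Cfg T φ) {o : Cfsg.IrrCharacter G}
    {d A B R S : Cfsg.IrrCharacter G → ℤ} {v : Fin 3 → Cfsg.IrrCharacter G → ℤ}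
    (hc : Cols o A B R S) (hdo : d o = 1) (hvo : ∀ i, v i o = 1) (hd : ∀ χ, d χ ≠ 0)
    (hcols : ∀ j : Fin 4, ∀ f : Cfsg.IrrCharacter G → ℤ,
        f = (match j with | 0 => A | 1 => B | 2 => R | 3 => S) →
          (∑ χ, f χ * d χ = 0) ∧ (∀ i, ∑ χ, f χ * v i χ = 0) ∧
          ∀ i k (p q : Fin 4 → Bool), (∀ m, p (ty m) = true ↔ IsConj (φ (rep i)) (φ m)) →
            (∀ m, q (ty m) = true ↔ IsConj (φ (rep k)) (φ m)) →
            ∑ χ, (f χ : ℚ) * ((v i χ : ℚ) * v k χ / d χ) = (cnt p q (col j) : ℚ) *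
              ((Nat.card (centralizer ({φ (rep i)} : Set G)) : ℚ) *
                Nat.card (centralizer ({φ (rep k)} : Set G))) / Nat.card G)
    (P : Fin 3 → Fin 4 → Bool) (hP : ∀ i m, P i (ty m) = true ↔ IsConj (φ (rep i)) (φ m))
    (a b r s : ℤ) (f : Cfsg.IrrCharacter G → ℤ)
    (hf : ∀ χ, 6 * f χ = a * A χ + b * B χ + r * R χ + s * S χ)
    (hn : 18 * (a * a + b * b) + 6 * (r * r + s * s) = 144) :
    (∑ χ, f χ ^ 2 = 4) ∧ (∑ χ, (f χ : ℚ) * d χ = 0) ∧
      (∀ i, ∑ χ, (f χ : ℚ) * (((d χ : ℚ) - v i χ) /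
        Nat.card (centralizer ({φ (rep i)} : Set G))) = 0) ∧
      ∀ i k, ∑ χ, (f χ : ℚ) * ((((d χ : ℚ) - v i χ) / Nat.card (centralizer ({φ (rep i)} : Set G))) *
          (((d χ : ℚ) - v k χ) / Nat.card (centralizer ({φ (rep k)} : Set G))) / d χ) =
        ((a * cnt (P i) (P k) ga + b * cnt (P i) (P k) gb + r * cnt (P i) (P k) gR +
          s * cnt (P i) (P k) gS : ℤ) : ℚ) / 6 / Nat.card G := by
  classical
  obtain ⟨A1, A2, A3⟩ := hcols 0 A rfl
  obtain ⟨B1, B2, B3⟩ := hcols 1 B rfl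
  obtain ⟨R1, R2, R3⟩ := hcols 2 R rfl
  obtain ⟨S1, S2, S3⟩ := hcols 3 S rfl
  have hlin : ∀ g : Cfsg.IrrCharacter G → ℚ, ∑ χ, (f χ : ℚ) * g χ =
      ((a : ℚ) * ∑ χ, (A χ : ℚ) * g χ + (b : ℚ) * ∑ χ, (B χ : ℚ) * g χ +
        (r : ℚ) * ∑ χ, (R χ : ℚ) * g χ + (s : ℚ) * ∑ χ, (S χ : ℚ) * g χ) / 6 := by
    intro g
    simp only [Finset.mul_sum, ← Finset.sum_add_distrib, Finset.sum_div]
    refine Finset.sum_congr rfl fun χ _ => ?_
    have e : (6 : ℚ) * f χ = a * A χ + b * B χ + r * R χ + s * S χ := by exact_mod_cast hf χ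
    linear_combination (g χ / 6) * e
  have hnorm : ∑ χ, f χ ^ 2 = 4 := by
    have := hc.dot a b r s a b r s
    have e : ∀ χ, (a * A χ + b * B χ + r * R χ + s * S χ) * (a * A χ + b * B χ + r * R χ + s * S χ) =
        36 * f χ ^ 2 := fun χ => by rw [← hf χ]; ring
    simp only [e, ← Finset.mul_sum] at this
    omega
  have hd0 : ∀ f' : Cfsg.IrrCharacter G → ℤ, ∑ χ, f' χ * d χ = 0 →
      ∑ χ, (f' χ : ℚ) * (d χ : ℚ) = 0 := fun f' e => by exact_mod_cast e
  have hv0 : ∀ i (f' : Cfsg.IrrCharacter G → ℤ), ∑ χ, f' χ * v i χ = 0 →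
      ∑ χ, (f' χ : ℚ) * (v i χ : ℚ) = 0 := fun i f' e => by exact_mod_cast e
  have fd : ∑ χ, (f χ : ℚ) * d χ = 0 := by
    rw [hlin, hd0 A A1, hd0 B B1, hd0 R R1, hd0 S S1]; ring
  have fv : ∀ i, ∑ χ, (f χ : ℚ) * v i χ = 0 := fun i => by
    rw [hlin, hv0 i A (A2 i), hv0 i B (B2 i), hv0 i R (R2 i), hv0 i S (S2 i)]; ring
  have hc0 : ∀ i, (Nat.card (centralizer ({φ (rep i)} : Set G)) : ℚ) ≠ 0 := fun i =>
    Nat.cast_ne_zero.2 Nat.card_pos.ne'
  refine ⟨hnorm, fd, fun i => ?_, fun i k => ?_⟩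
  · simp only [← mul_div_assoc, mul_sub, ← Finset.sum_div, Finset.sum_sub_distrib, fd, fv]
    simp
  · set ci := (Nat.card (centralizer ({φ (rep i)} : Set G)) : ℚ)
    set ck := (Nat.card (centralizer ({φ (rep k)} : Set G)) : ℚ)
    have e : ∀ χ, (f χ : ℚ) * ((((d χ : ℚ) - v i χ) / ci) * (((d χ : ℚ) - v k χ) / ck) / d χ) =
        ((f χ : ℚ) * d χ - f χ * v i χ - f χ * v k χ + f χ * ((v i χ : ℚ) * v k χ / d χ)) /
          (ci * ck) := fun χ => by
      have h1 : (d χ : ℚ) ≠ 0 := Int.cast_ne_zero.2 (hd χ)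
      have h2 := hc0 i
      have h3 := hc0 k
      field_simp
      ring
    simp only [e, ← Finset.sum_div, Finset.sum_add_distrib, Finset.sum_sub_distrib, fd, fv]
    rw [hlin, A3 i k _ _ (hP i) (hP k), B3 i k _ _ (hP i) (hP k), R3 i k _ _ (hP i) (hP k),
      S3 i k _ _ (hP i) (hP k)]
    have hG : (Nat.card G : ℚ) ≠ 0 := Nat.cast_ne_zero.2 Nat.card_pos.ne'
    have h2 : ci ≠ 0 := hc0 i
    have h3 : ck ≠ 0 := hc0 k
    simp only [col]
    push_cast
    field_simp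
    ring

/-- Classes without further fusion. -/
def PP (i : Fin 3) (k : Fin 4) : Bool := k == i.castSucc

/-- `(s, s)` fused to `(1, s)`. -/
def PQ : Fin 3 → Fin 4 → Bool
  | 1, k => k == 1
  | _, k => k == 0 || k == 2

theorem cntP : ∀ z ∈ ([ga, gb, gR, gS] : List M1),
    [cnt (PP 0) (PP 0) z, cnt (PP 1) (PP 1) z, cnt (PP 2) (PP 2) z, cnt (PP 0) (PP 1) z,
      cnt (PP 0) (PP 2) z, cnt (PP 1) (PP 2) z, cnt (PP 1) (PP 0) z, cnt (PP 2) (PP 0) z, cnt (PP 2) (PP 1) z] =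
    if z = ga then [3, 0, 9, 0, 0, 0, 0, 0, 0] else if z = gb then [0, 3, 9, 0, 0, 0, 0, 0, 0]
    else if z = gR then [0, 0, 0, 0, 3, 0, 0, 3, 0] else [0, 0, 0, 0, 0, 3, 0, 0, 3] := by
  decide +kernel

theorem cntQ : ∀ z ∈ ([ga, gb, gR, gS] : List M1),
    [cnt (PQ 0) (PQ 0) z, cnt (PQ 1) (PQ 1) z, cnt (PQ 0) (PQ 1) z, cnt (PQ 1) (PQ 0) z] =
    if z = ga then [12, 0, 0, 0] else if z = gb then [9, 3, 0, 0]
    else if z = gR then [6, 0, 0, 0] else [0, 0, 3, 3] := by decide +kernel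

/-- Fusion into the model. -/
theorem Cfg.conj_ty (h : Cfg T φ) (i : Fin 3) (m : M1) :
    IsConj (φ (rep i)) (φ m) ↔ ∃ k : Fin 3, ty m = k.castSucc ∧ IsConj (φ (rep i)) (φ (rep k)) := by
  constructor
  · intro e
    obtain ⟨g, hg⟩ := isConj_iff.1 e
    have h2 : m * m = 1 := h.inj (by
      rw [map_mul, map_one, ← hg]
      calc g * φ (rep i) * g⁻¹ * (g * φ (rep i) * g⁻¹) = g * φ (rep i * rep i) * g⁻¹ := by
            rw [map_mul]; group
        _ = 1 := by rw [(rep_inv i).1, map_one]; group)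
    have h1 : m ≠ 1 := fun e1 => h.ne_one (rep_inv i).2 (by
      rw [e1, map_one] at hg
      exact conj_eq_one_iff.1 hg)
    obtain ⟨k, hk, hk'⟩ := ty_spec m h2 h1
    exact ⟨k, hk, e.trans (isConj_map φ hk').symm⟩
  · rintro ⟨k, hk, hk'⟩
    obtain ⟨h2, h1⟩ := ty_three m (by rw [hk]; exact fun e => by fin_cases k <;> simp at e)
    obtain ⟨k', hkk, hc⟩ := ty_spec m h2 h1
    rw [hk] at hkk
    obtain rfl := Fin.castSucc_injective _ hkk
    exact hk'.trans (isConj_map φ hc)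

/-- Only the principal character has an involution of the model in its kernel or has degree one. -/
def NoQuot (φ : M1 →* G) : Prop :=
  ∀ χ : Cfsg.IrrCharacter G, ((∃ i, (χ : G → ℂ) (φ (rep i)) = (χ : G → ℂ) 1) ∨ (χ : G → ℂ) 1 = 1) →
    (χ : G → ℂ) = fun _ => 1

/-- No fusion among the three classes is impossible. -/
theorem Cfg.false_of_free (h : Cfg T φ) (hq : NoQuot φ) (hA : ¬ IsConj (φ gA) (φ gC))
    (hW : ¬ IsConj (φ gW) (φ gC)) : False := by
  classical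
  have hne : ∀ i k : Fin 3, IsConj (φ (rep i)) (φ (rep k)) → i = k := by
    intro i k e
    fin_cases i <;> fin_cases k <;> first
      | rfl
      | exact absurd e h.not_conj_A_W
      | exact absurd e.symm h.not_conj_A_W
      | exact absurd e hA
      | exact absurd e.symm hA
      | exact absurd e hW
      | exact absurd e.symm hW
  have hP : ∀ i m, PP i (ty m) = true ↔ IsConj (φ (rep i)) (φ m) := fun i m => by
    rw [h.conj_ty, PP, beq_iff_eq]
    exact ⟨fun e => ⟨i, e, IsConj.refl _⟩, fun ⟨k, hk, hk'⟩ => (hne i k hk').symm ▸ hk⟩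
  obtain ⟨o, d, A, B, R, S, v, ho, hc, hdo, hvo, hd, hd1, hv, -, hcols⟩ := h.exists_data
  have h6 : ∀ χ, (6 : ℤ) ∣ A χ - B χ - 3 * R χ - 3 * S χ ∧ (6 : ℤ) ∣ A χ - B χ + 3 * R χ + 3 * S χ :=
    fun χ => by have := hc.hAB χ; have := hc.hAR χ; have := hc.hBS χ; omega
  choose e₁ he₁ using fun χ => (h6 χ).1
  choose e₂ he₂ using fun χ => (h6 χ).2
  obtain ⟨x, hxo, σ, hσ, hx1, hx2, -, -⟩ :=
    hc.shared e₁ e₂ (fun χ => (he₁ χ).symm) (fun χ => (he₂ χ).symm)
  let c : Fin 3 → ℚ := fun i => Nat.card (centralizer ({φ (rep i)} : Set G))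
  let z : Fin 3 → Cfsg.IrrCharacter G → ℚ := fun i χ => ((d χ : ℚ) - v i χ) / c i
  have hzo : ∀ i, z i o = 0 := fun i => by simp [z, hdo, hvo]
  have hG : (Nat.card G : ℚ) ≠ 0 := Nat.cast_ne_zero.2 Nat.card_pos.ne'
  have n := cntP
  simp only [List.forall_mem_cons, List.not_mem_nil, IsEmpty.forall_iff, implies_true, and_true,
    show gb ≠ ga by decide +kernel, show gR ≠ ga by decide +kernel, show gR ≠ gb by decide +kernel,
    show gS ≠ ga by decide +kernel, show gS ≠ gb by decide +kernel, show gS ≠ gR by decide +kernel,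
    if_true, if_false, List.cons.injEq, and_assoc] at n
  have key : ∀ (e : Cfsg.IrrCharacter G → ℤ) (ε : ℤ), (ε = 1 ∨ ε = -1) →
      (∀ χ, 6 * e χ = 1 * A χ + (-1) * B χ + (3 * ε) * R χ + (3 * ε) * S χ) → e x ^ 2 = 1 →
      z 2 x - 3 * ε * (z 0 x - z 1 x) = 0 := by
    intro e ε hε he hex
    obtain ⟨f1, f2, f3, f4⟩ := h.exists_comb hc hdo hvo hd hcols PP hP 1 (-1) (3 * ε) (3 * ε) e he
      (by rcases hε with rfl | rfl <;> norm_num)
    change ∀ i, ∑ χ, (e χ : ℚ) * z i χ = 0 at f3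
    change ∀ i k, ∑ χ, (e χ : ℚ) * (z i χ * z k χ / d χ) = _ at f4
    have heo : e o ^ 2 = 1 := by
      have := he o; rw [hc.oA, hc.oB, hc.oR, hc.oS] at this
      have : e o = ε := by omega
      rw [this]; rcases hε with rfl | rfl <;> norm_num
    let w : Cfsg.IrrCharacter G → ℚ := fun χ => z 2 χ - 3 * ε * (z 0 χ - z 1 χ)
    have hw : ∑ χ, (e χ : ℚ) * w χ = 0 := by
      calc ∑ χ, (e χ : ℚ) * w χ = ∑ χ, ((e χ : ℚ) * z 2 χ - 3 * ε * ((e χ : ℚ) * z 0 χ) +
            3 * ε * ((e χ : ℚ) * z 1 χ)) := Finset.sum_congr rfl fun χ _ => by simp only [w]; ring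
        _ = 0 := by simp only [Finset.sum_add_distrib, Finset.sum_sub_distrib, ← Finset.mul_sum, f3]; ring
    have hP0 : ∑ χ, (e χ : ℚ) * (w χ * w χ / d χ) = 0 := by
      calc ∑ χ, (e χ : ℚ) * (w χ * w χ / d χ) = ∑ χ, ((e χ : ℚ) * (z 2 χ * z 2 χ / d χ) +
            9 * (ε : ℚ) ^ 2 * ((e χ : ℚ) * (z 0 χ * z 0 χ / d χ)) +
            9 * (ε : ℚ) ^ 2 * ((e χ : ℚ) * (z 1 χ * z 1 χ / d χ)) -
            18 * (ε : ℚ) ^ 2 * ((e χ : ℚ) * (z 0 χ * z 1 χ / d χ)) -
            6 * ε * ((e χ : ℚ) * (z 0 χ * z 2 χ / d χ)) +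
            6 * ε * ((e χ : ℚ) * (z 1 χ * z 2 χ / d χ))) :=
            Finset.sum_congr rfl fun χ _ => by simp only [w]; ring
        _ = 0 := by
          simp only [Finset.sum_add_distrib, Finset.sum_sub_distrib, ← Finset.mul_sum, f4, n]
          rcases hε with rfl | rfl <;> (push_cast; ring)
    have hM0 : ∑ χ, (e χ : ℚ) * (w χ * z 0 χ / d χ) = 0 := by
      calc ∑ χ, (e χ : ℚ) * (w χ * z 0 χ / d χ) = ∑ χ, ((e χ : ℚ) * (z 0 χ * z 2 χ / d χ) -
            3 * ε * ((e χ : ℚ) * (z 0 χ * z 0 χ / d χ)) +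
            3 * ε * ((e χ : ℚ) * (z 0 χ * z 1 χ / d χ))) :=
            Finset.sum_congr rfl fun χ _ => by simp only [w]; ring
        _ = 0 := by
          simp only [Finset.sum_add_distrib, Finset.sum_sub_distrib, ← Finset.mul_sum, f4, n]
          rcases hε with rfl | rfl <;> (push_cast; ring)
    have := form_at e hxo heo hex f1 (fun χ => (d χ : ℚ)) w (z 0) (fun χ => Int.cast_ne_zero.2 (hd χ))
      (by simp [hdo]) f2 hw (f3 0) (by simp [w, hzo]) (hzo 0) hP0 hM0 rfl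
    rw [f4 0 0] at this
    simp only [n] at this
    have h3 : (3 : ℚ) / 6 / Nat.card G ≠ 0 := div_ne_zero (by norm_num) hG
    have h4 : (3 : ℚ) / 6 / Nat.card G * w x ^ 2 = 0 := by
      push_cast at this
      linear_combination this
    simpa [w] using (mul_eq_zero.1 h4).resolve_left h3
  have k1 := key e₁ (-1) (Or.inr rfl) (fun χ => by have := he₁ χ; omega)
    (by rw [hx1]; rcases hσ with rfl | rfl <;> norm_num)
  have k2 := key e₂ 1 (Or.inl rfl) (fun χ => by have := he₂ χ; omega)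
    (by rw [hx2]; rcases hσ with rfl | rfl <;> norm_num)
  push_cast at k1 k2
  have hz2 : z 2 x = 0 := by linarith
  have : d x = v 2 x := by
    have h1 : (d x : ℚ) - v 2 x = 0 := by
      have hc2 : c 2 ≠ 0 := Nat.cast_ne_zero.2 Nat.card_pos.ne'
      simpa [z, hc2] using hz2
    exact_mod_cast sub_eq_zero.1 h1
  refine hxo (Subtype.ext ((hq x (Or.inl ⟨2, ?_⟩)).trans ho.symm))
  rw [hv, hd1, this]

/-- The class of `(s, s)` is not that of `(1, s)`. -/
theorem Cfg.false_of_fused (h : Cfg T φ) (hq : NoQuot φ) (hA : IsConj (φ gA) (φ gC)) : False := by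
  classical
  have hW : ¬ IsConj (φ gW) (φ gC) := fun e => h.not_conj_A_W (hA.trans e.symm)
  have hP : ∀ i m, PQ i (ty m) = true ↔ IsConj (φ (rep i)) (φ m) := by
    intro i m
    rw [h.conj_ty]
    constructor
    · intro e
      fin_cases i
      · rcases Bool.or_eq_true_iff.1 e with e | e <;> rw [beq_iff_eq] at e
        · exact ⟨0, e, IsConj.refl _⟩
        · exact ⟨2, e, hA⟩
      · exact ⟨1, beq_iff_eq.1 e, IsConj.refl _⟩
      · rcases Bool.or_eq_true_iff.1 e with e | e <;> rw [beq_iff_eq] at e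
        · exact ⟨0, e, hA.symm⟩
        · exact ⟨2, e, IsConj.refl _⟩
    · rintro ⟨k, hk, e⟩
      rw [hk]
      fin_cases i <;> fin_cases k <;> first
        | rfl
        | exact absurd e h.not_conj_A_W
        | exact absurd e.symm h.not_conj_A_W
        | exact absurd e hW
        | exact absurd e.symm hW
  obtain ⟨o, d, A, B, R, S, v, ho, hc, hdo, hvo, hd, hd1, hv, hmod, hcols⟩ := h.exists_data
  have h6 : ∀ χ, (6 : ℤ) ∣ A χ - B χ - 3 * R χ - 3 * S χ ∧
      (6 : ℤ) ∣ A χ - B χ + 3 * R χ + 3 * S χ ∧ (6 : ℤ) ∣ 2 * A χ + B χ + 3 * S χ :=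
    fun χ => by have := hc.hAB χ; have := hc.hAR χ; have := hc.hBS χ; omega
  choose e₁ he₁ using fun χ => (h6 χ).1
  choose e₂ he₂ using fun χ => (h6 χ).2.1
  choose e₃ he₃ using fun χ => (h6 χ).2.2
  obtain ⟨x, hxo, σ, hσ, hx1, hx2, hBA, hcase⟩ :=
    hc.shared e₁ e₂ (fun χ => (he₁ χ).symm) (fun χ => (he₂ χ).symm)
  let c : Fin 3 → ℚ := fun i => Nat.card (centralizer ({φ (rep i)} : Set G))
  let z : Fin 3 → Cfsg.IrrCharacter G → ℚ := fun i χ => ((d χ : ℚ) - v i χ) / c i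
  have hzo : ∀ i, z i o = 0 := fun i => by simp [z, hdo, hvo]
  have hG : (Nat.card G : ℚ) ≠ 0 := Nat.cast_ne_zero.2 Nat.card_pos.ne'
  have n := cntQ
  simp only [List.forall_mem_cons, List.not_mem_nil, IsEmpty.forall_iff, implies_true, and_true,
    show gb ≠ ga by decide +kernel, show gR ≠ ga by decide +kernel, show gR ≠ gb by decide +kernel,
    show gS ≠ ga by decide +kernel, show gS ≠ gb by decide +kernel, show gS ≠ gR by decide +kernel,
    if_true, if_false, List.cons.injEq, and_assoc] at n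
  have key : ∀ (e : Cfsg.IrrCharacter G → ℤ) (a b r s : ℤ),
      (∀ χ, 6 * e χ = a * A χ + b * B χ + r * R χ + s * S χ) →
      18 * (a * a + b * b) + 6 * (r * r + s * s) = 144 → e o ^ 2 = 1 → e x ^ 2 = 1 →
      (3 * b : ℚ) * z 0 x ^ 2 - 2 * (3 * s) * (z 0 x * z 1 x) + (12 * a + 9 * b + 6 * r) * z 1 x ^ 2 =
        ((12 * a + 9 * b + 6 * r) * (3 * b) - (3 * s) ^ 2) / 6 / Nat.card G *
          ((e x : ℚ) * d x * (-(e o : ℚ) - e x * d x)) / -(e o : ℚ) := by
    intro e a b r s he hn heo hex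
    obtain ⟨-, f2, f3, f4⟩ := h.exists_comb hc hdo hvo hd hcols PQ hP a b r s e he hn
    obtain ⟨f1, -⟩ := h.exists_comb hc hdo hvo hd hcols PQ hP a b r s e he hn
    change ∀ i, ∑ χ, (e χ : ℚ) * z i χ = 0 at f3
    change ∀ i k, ∑ χ, (e χ : ℚ) * (z i χ * z k χ / d χ) = _ at f4
    have := form_at e hxo heo hex f1 (fun χ => (d χ : ℚ)) (z 0) (z 1)
      (fun χ => Int.cast_ne_zero.2 (hd χ)) (by simp [hdo]) f2 (f3 0) (f3 1) (hzo 0) (hzo 1)
      (f4 0 0) (f4 0 1) (f4 1 1)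
    simp only [n] at this
    push_cast at this
    have heo' : (e o : ℚ) ≠ 0 := Int.cast_ne_zero.2 fun e0 => by simp [e0] at heo
    field_simp at this ⊢
    linear_combination this
  have o1 : e₁ o = -1 := by have := he₁ o; rw [hc.oA, hc.oB, hc.oR, hc.oS] at this; omega
  have o2 : e₂ o = 1 := by have := he₂ o; rw [hc.oA, hc.oB, hc.oR, hc.oS] at this; omega
  have o3 : e₃ o = 1 := by have := he₃ o; rw [hc.oA, hc.oB, hc.oS] at this; omega
  have hs2 : σ ^ 2 = 1 := by rcases hσ with rfl | rfl <;> norm_num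
  have I := key e₁ 1 (-1) (-3) (-3) (fun χ => by have := he₁ χ; omega) (by norm_num)
    (by rw [o1]; norm_num) (by rw [hx1, neg_sq, hs2])
  have II := key e₂ 1 (-1) 3 3 (fun χ => by have := he₂ χ; omega) (by norm_num)
    (by rw [o2]; norm_num) (by rw [hx2, hs2])
  rw [hx1, o1] at I
  rw [hx2, o2] at II
  push_cast at I II
  set X := z 0 x
  set Y := z 1 x
  set D : ℚ := σ * d x with hD
  have q1 : (X - Y) * (5 * X - 13 * Y) = 0 := by
    linear_combination (-4 / 3 : ℚ) * I + (-1 / 3 : ℚ) * II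
  have hker : ∀ i, v i x ≠ d x := fun i e => hxo (Subtype.ext
    ((hq x (Or.inl ⟨i, by rw [hv, hd1, e]⟩)).trans ho.symm))
  have hc0 : ∀ i, c i ≠ 0 := fun i => Nat.cast_ne_zero.2 Nat.card_pos.ne'
  have hY : Y ≠ 0 := fun e => hker 1 (by
    have h1 : (d x : ℚ) - v 1 x = 0 := by simpa [Y, z, hc0] using e
    exact_mod_cast (sub_eq_zero.1 h1).symm)
  rcases hcase with ⟨hA', hR', hS'⟩ | hmod'
  · have hx3 : e₃ x = σ := by have := he₃ x; rw [hBA, hA', hS'] at this; omega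
    have E := key e₃ 2 1 0 3 (fun χ => by have := he₃ χ; omega) (by norm_num)
      (by rw [o3]; norm_num) (by rw [hx3, hs2])
    rw [hx3, o3] at E
    push_cast at E
    have q2 : 7 * X ^ 2 - 54 * (X * Y) + 95 * Y ^ 2 = 0 := by
      linear_combination (1 / 3 : ℚ) * II + (8 / 3 : ℚ) * E
    have q3 : Y * (8 * Y - 3 * X) = 0 := by
      linear_combination (5 / 48 : ℚ) * q2 - (7 / 48 : ℚ) * q1
    have q4 : 3 * X = 8 * Y := by
      linarith [(mul_eq_zero.1 q3).resolve_left hY]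
    have : Y ^ 2 = 0 := by linear_combination (9 : ℚ) / 5 * q1 - ((15 * X - 14 * Y) / 5) * q4
    exact hY ((pow_eq_zero_iff two_ne_zero).1 this)
  rcases mul_eq_zero.1 q1 with e | e
  · have hX : X = Y := sub_eq_zero.1 e
    have h0 : (σ : ℚ) * d x * (1 + σ * d x) = 0 := by
      rw [hX] at I
      field_simp at I
      linear_combination (-1 / 36 : ℚ) * I
    have hdx : (σ : ℚ) * d x ≠ 0 :=
      mul_ne_zero (by rcases hσ with rfl | rfl <;> norm_num) (Int.cast_ne_zero.2 (hd x))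
    have h1 : σ * d x = -1 := by
      have := (mul_eq_zero.1 h0).resolve_left hdx
      have : (σ : ℚ) * d x = -1 := by linarith
      exact_mod_cast this
    obtain ⟨nn, -, hn⟩ := Char.IsIrr.degree x.2
    have h2 : d x = (nn : ℤ) := by exact_mod_cast (hd1 x).symm.trans hn
    have h3 : d x = 1 := by rcases hσ with rfl | rfl <;> omega
    refine hxo (Subtype.ext ((hq x (Or.inr ?_)).trans ho.symm))
    rw [hd1, h3, Int.cast_one]
  · obtain ⟨c1, c2, c3, c4, c5, c6⟩ := cent_A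
    have hcA := (h.sylow_cent (rep_inv 0).1 (rep_inv 0).2 c1 c3 c5).2 norm_A.1
    have hcW := (h.sylow_cent (rep_inv 1).1 (rep_inv 1).2 c2 c4 c6).2 norm_A.2
    obtain ⟨k₀, hk₀⟩ : ∃ k, Nat.card (centralizer ({φ (rep 0)} : Set G)) = 36 * k + 12 :=
      ⟨Nat.card (centralizer ({φ (rep 0)} : Set G)) / 36, by omega⟩
    obtain ⟨k₁, hk₁⟩ : ∃ k, Nat.card (centralizer ({φ (rep 1)} : Set G)) = 36 * k + 12 :=
      ⟨Nat.card (centralizer ({φ (rep 1)} : Set G)) / 36, by omega⟩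
    have e' : 5 * ((d x : ℚ) - v 0 x) * c 1 = 13 * ((d x : ℚ) - v 1 x) * c 0 := by
      have h0 := hc0 0
      have h1 := hc0 1
      simp only [X, Y, z] at e
      field_simp at e
      linear_combination e
    simp only [c, hk₀, hk₁] at e'
    push_cast at e'
    have e'' : 5 * (d x - v 0 x) * (3 * (k₁ : ℤ) + 1) = 13 * (d x - v 1 x) * (3 * (k₀ : ℤ) + 1) := by
      have : 5 * ((d x : ℚ) - v 0 x) * (3 * (k₁ : ℚ) + 1) =
          13 * ((d x : ℚ) - v 1 x) * (3 * (k₀ : ℚ) + 1) := by linear_combination e' / 12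
      exact_mod_cast this
    obtain ⟨m1, m2, m3⟩ := hmod x
    refine hmod' ?_
    have h3 : (3 : ℤ) ∣ 2 * (d x - v 0 x) - (d x - v 1 x) :=
      ⟨13 * (d x - v 1 x) * k₀ - 5 * (d x - v 0 x) * k₁ + 4 * (d x - v 1 x) - (d x - v 0 x), by
        linear_combination e''⟩
    omega

/-- Some nonprincipal character is linear or has an involution of the model in its kernel. -/
theorem Gens.exists_quot {t w : G} (h : Gens T t w) : ∃ φ : M1 →* G, Cfg T φ ∧
    ∃ χ : Cfsg.IrrCharacter G, (χ : G → ℂ) ≠ (fun _ => 1) ∧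
      ((∃ i, (χ : G → ℂ) (φ (rep i)) = (χ : G → ℂ) 1) ∨ (χ : G → ℂ) 1 = 1) := by
  obtain ⟨φ, hφ, hA, hW, hC⟩ := h.exists_cfg
  by_contra hcon
  push Not at hcon
  have hq : ∀ ψ : M1 →* G, Cfg T ψ → NoQuot ψ := fun ψ hψ χ hχ => by
    by_contra hne
    obtain ⟨h1, h2⟩ := hcon ψ hψ χ hne
    rcases hχ with ⟨i, e⟩ | e
    · exact h1 i e
    · exact h2 e
  by_cases c1 : IsConj (φ gA) (φ gC)
  · exact hφ.false_of_fused (hq φ hφ) c1
  by_cases c2 : IsConj (φ gW) (φ gC)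
  · obtain ⟨ψ, hψ, hA', hW', hC'⟩ := h.swap.exists_cfg
    refine hψ.false_of_fused (hq ψ hψ) ?_
    rw [hA', hC']
    rw [hW, hC] at c2
    have : (w * t) * (w * t) = (t * w) * (t * w) := by
      refine inv_injective ?_
      rw [inv_eq_of_mul_eq_one_right h.four, ← inv_inj]
      simp only [mul_inv_rev, inv_inv, inv_eq_of_mul_eq_one_right h.t_sq,
        inv_eq_of_mul_eq_one_right h.w_sq, mul_assoc]
    rw [this]
    exact c2
  · exact hφ.false_of_free (hq φ hφ) c1 c2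

/-- **Main theorem.** -/
theorem Gens.not_simple [IsSimpleGroup G] {t w : G} (h : Gens T t w) : False := by
  obtain ⟨φ, hφ, χ, hne, ⟨i, hi⟩ | h1⟩ := h.exists_quot
  · exact hne (eq_one_of_ker χ (hφ.ne_one (rep_inv i).2) hi)
  · exact hne (eq_one_of_degree ⟨φ gA, φ gW, fun e => noncomm (hφ.inj (by rw [map_mul, map_mul, e]))⟩ χ h1)

end Cfsg.Agent.ThreeWreath
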