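import Mathlib.Algebra.BigOperators.Ring.Finset
import Mathlib.Algebra.Order.BigOperators.Ring.Finset
import Mathlib.Data.Fintype.BigOperators
import Mathlib.Tactic.LinearCombination
import Mathlib.Tactic.FieldSimp
import Mathlib.Tactic.Linarith
import Mathlib.Tactic.IntervalCases

/-!
# Integer vectors with the orthogonality relations of four columns, and binary forms
-/

set_option autoImplicit false

namespace Cfsg.Agent.ThreeWreath

variable {ι : Type*} [Fintype ι] [DecidableEq ι]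

/-- Four integer columns with the orthogonality relations and congruences. -/
structure Cols (o : ι) (A B R S : ι → ℤ) : Prop where
  oA : A o = 1
  oB : B o = 1
  oR : R o = 1
  oS : S o = 1
  AA : ∑ i, A i * A i = 18
  BB : ∑ i, B i * B i = 18
  RR : ∑ i, R i * R i = 6
  SS : ∑ i, S i * S i = 6
  AB : ∑ i, A i * B i = 0
  AR : ∑ i, A i * R i = 0
  AS : ∑ i, A i * S i = 0
  BR : ∑ i, B i * R i = 0
  BS : ∑ i, B i * S i = 0
  RS : ∑ i, R i * S i = 0
  hAB : ∀ i, (3 : ℤ) ∣ A i - B i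
  hAR : ∀ i, (2 : ℤ) ∣ A i - R i
  hBS : ∀ i, (2 : ℤ) ∣ B i - S i

/-- Inner product of two combinations of the columns. -/
theorem Cols.dot {o : ι} {A B R S : ι → ℤ} (h : Cols o A B R S) (a b r s a' b' r' s' : ℤ) :
    ∑ i, (a * A i + b * B i + r * R i + s * S i) * (a' * A i + b' * B i + r' * R i + s' * S i) =
      18 * (a * a' + b * b') + 6 * (r * r' + s * s') := by
  have e : ∀ i, (a * A i + b * B i + r * R i + s * S i) * (a' * A i + b' * B i + r' * R i + s' * S i) =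
      a * a' * (A i * A i) + b * b' * (B i * B i) + r * r' * (R i * R i) + s * s' * (S i * S i) +
      (a * b' + b * a') * (A i * B i) + (a * r' + r * a') * (A i * R i) +
      (a * s' + s * a') * (A i * S i) + (b * r' + r * b') * (B i * R i) +
      (b * s' + s * b') * (B i * S i) + (r * s' + s * r') * (R i * S i) := fun i => by ring
  simp only [e, Finset.sum_add_distrib, ← Finset.mul_sum, h.AA, h.BB, h.RR, h.SS, h.AB, h.AR, h.AS,
    h.BR, h.BS, h.RS]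
  ring

theorem small_sq {x : ℤ} {n : ℕ} (h : x ^ 2 < (n : ℤ) ^ 2) : -(n : ℤ) < x ∧ x < n := by
  refine abs_lt.1 ?_
  exact (sq_lt_sq.1 h).trans_eq (abs_of_nonneg (Int.natCast_nonneg n))

omit [DecidableEq ι] in
/-- The square sum over a set is bounded by the total. -/
theorem sq_sum_le (f : ι → ℤ) (s : Finset ι) : ∑ i ∈ s, f i ^ 2 ≤ ∑ i, f i ^ 2 :=
  Finset.sum_le_sum_of_subset_of_nonneg (Finset.subset_univ s) fun i _ _ => sq_nonneg _

/-- A vector of norm four with a unit at `o` and at `x` has two more units. -/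
theorem exists_support (f : ι → ℤ) {o x : ι} (hox : x ≠ o) (ho : f o ^ 2 = 1) (hx : f x ^ 2 = 1)
    (hs : ∑ i, f i ^ 2 = 4) :
    ∃ p q, p ≠ o ∧ q ≠ o ∧ p ≠ x ∧ q ≠ x ∧ p ≠ q ∧ f p ^ 2 = 1 ∧ f q ^ 2 = 1 ∧
      ∀ i, i ≠ o → i ≠ x → i ≠ p → i ≠ q → f i = 0 := by
  set T := ((Finset.univ : Finset ι).erase o).erase x
  have hT : ∑ i ∈ T, f i ^ 2 = 2 := by
    rw [← Finset.add_sum_erase _ _ (Finset.mem_univ o),
      ← Finset.add_sum_erase _ _ (Finset.mem_erase.2 ⟨hox, Finset.mem_univ x⟩), ho, hx] at hs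
    change 1 + (1 + ∑ i ∈ T, f i ^ 2) = 4 at hs
    omega
  have h01 : ∀ i ∈ T, f i ^ 2 = if f i ≠ 0 then 1 else 0 := by
    intro i hi
    have h2 := Finset.single_le_sum (f := fun i => f i ^ 2) (fun i _ => sq_nonneg _) hi
    simp only [hT] at h2
    obtain ⟨h3, h4⟩ := small_sq (x := f i) (n := 2) (by norm_num; omega)
    norm_num at h3 h4
    have : f i = 0 ∨ f i = 1 ∨ f i = -1 := by omega
    rcases this with e | e | e <;> simp [e]
  rw [Finset.sum_congr rfl h01, Finset.sum_boole] at hT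
  obtain ⟨p, q, hpq, hS⟩ := Finset.card_eq_two.1 (by exact_mod_cast hT :
    (T.filter fun i => f i ≠ 0).card = 2)
  have hp : p ∈ T.filter fun i => f i ≠ 0 := by rw [hS]; simp
  have hq : q ∈ T.filter fun i => f i ≠ 0 := by rw [hS]; simp
  rw [Finset.mem_filter] at hp hq
  refine ⟨p, q, ?_, ?_, (Finset.mem_erase.1 hp.1).1, (Finset.mem_erase.1 hq.1).1, hpq,
    by rw [h01 p hp.1, if_pos hp.2], by rw [h01 q hq.1, if_pos hq.2], fun i h1 h2 h3 h4 => ?_⟩
  · exact (Finset.mem_erase.1 (Finset.mem_erase.1 hp.1).2).1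
  · exact (Finset.mem_erase.1 (Finset.mem_erase.1 hq.1).2).1
  · by_contra hne
    have : i ∈ T.filter fun i => f i ≠ 0 :=
      Finset.mem_filter.2 ⟨Finset.mem_erase.2 ⟨h2, Finset.mem_erase.2 ⟨h1, Finset.mem_univ i⟩⟩, hne⟩
    rw [hS] at this
    simp [h3, h4] at this

variable {o : ι} {A B R S : ι → ℤ}

/-- The two main combinations share exactly one index besides `o`, where the columns are small. -/
theorem Cols.shared (h : Cols o A B R S) (e₁ e₂ : ι → ℤ)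
    (h₁ : ∀ i, 6 * e₁ i = A i - B i - 3 * R i - 3 * S i)
    (h₂ : ∀ i, 6 * e₂ i = A i - B i + 3 * R i + 3 * S i) :
    ∃ x, x ≠ o ∧ ∃ σ : ℤ, (σ = 1 ∨ σ = -1) ∧ e₁ x = -σ ∧ e₂ x = σ ∧ B x = A x ∧
      ((A x = σ ∧ R x = σ ∧ S x = σ) ∨ ¬ (3 : ℤ) ∣ 2 * (A x - R x) - (A x - S x)) := by
  have d11 : ∑ i, e₁ i ^ 2 = 4 := by
    have := h.dot 1 (-1) (-3) (-3) 1 (-1) (-3) (-3)
    have e : ∀ i, (1 * A i + -1 * B i + -3 * R i + -3 * S i) * (1 * A i + -1 * B i + -3 * R i + -3 * S i) =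
        36 * e₁ i ^ 2 := fun i => by linear_combination (-(6 * e₁ i + (A i - B i - 3 * R i - 3 * S i))) * h₁ i
    simp only [e, ← Finset.mul_sum] at this
    omega
  have d22 : ∑ i, e₂ i ^ 2 = 4 := by
    have := h.dot 1 (-1) 3 3 1 (-1) 3 3
    have e : ∀ i, (1 * A i + -1 * B i + 3 * R i + 3 * S i) * (1 * A i + -1 * B i + 3 * R i + 3 * S i) =
        36 * e₂ i ^ 2 := fun i => by linear_combination (-(6 * e₂ i + (A i - B i + 3 * R i + 3 * S i))) * h₂ i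
    simp only [e, ← Finset.mul_sum] at this
    omega
  have d12 : ∑ i, e₁ i * e₂ i = -2 := by
    have := h.dot 1 (-1) (-3) (-3) 1 (-1) 3 3
    have e : ∀ i, (1 * A i + -1 * B i + -3 * R i + -3 * S i) * (1 * A i + -1 * B i + 3 * R i + 3 * S i) =
        36 * (e₁ i * e₂ i) := fun i => by
      linear_combination (-(6 * e₂ i)) * h₁ i + (-(A i - B i - 3 * R i - 3 * S i)) * h₂ i
    simp only [e, ← Finset.mul_sum] at this
    omega
  have o1 : e₁ o = -1 := by have := h₁ o; rw [h.oA, h.oB, h.oR, h.oS] at this; omega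
  have o2 : e₂ o = 1 := by have := h₂ o; rw [h.oA, h.oB, h.oR, h.oS] at this; omega
  set U := (Finset.univ : Finset ι).erase o
  have u11 : ∑ i ∈ U, e₁ i ^ 2 = 3 := by
    rw [← Finset.add_sum_erase _ _ (Finset.mem_univ o), o1] at d11; linarith
  have u22 : ∑ i ∈ U, e₂ i ^ 2 = 3 := by
    rw [← Finset.add_sum_erase _ _ (Finset.mem_univ o), o2] at d22; linarith
  have u12 : ∑ i ∈ U, e₁ i * e₂ i = -1 := by
    rw [← Finset.add_sum_erase _ _ (Finset.mem_univ o), o1, o2] at d12; linarith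
  have small : ∀ e : ι → ℤ, ∑ i ∈ U, e i ^ 2 = 3 → ∀ i ∈ U, e i = 0 ∨ e i = 1 ∨ e i = -1 := by
    intro e he i hi
    have h2 := Finset.single_le_sum (f := fun i => e i ^ 2) (fun i _ => sq_nonneg _) hi
    simp only [he] at h2
    obtain ⟨h3, h4⟩ := small_sq (x := e i) (n := 2) (by norm_num; omega)
    norm_num at h3 h4
    omega
  obtain ⟨x, hxU, hx⟩ : ∃ x ∈ U, e₁ x * e₂ x < 0 := by
    by_contra hc
    push Not at hc
    have := Finset.sum_nonneg hc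
    omega
  have hxo : x ≠ o := (Finset.mem_erase.1 hxU).1
  obtain ⟨σ, hσ, hx1, hx2⟩ : ∃ σ : ℤ, (σ = 1 ∨ σ = -1) ∧ e₁ x = -σ ∧ e₂ x = σ := by
    rcases small e₁ u11 x hxU with a | a | a <;> rcases small e₂ u22 x hxU with b | b | b <;>
      rw [a, b] at hx <;> first | omega | exact ⟨e₂ x, by omega, by omega, rfl⟩
  have hAB : A x = B x := by have := h₁ x; have := h₂ x; omega
  have hRS : R x + S x = 2 * σ := by have := h₁ x; have := h₂ x; omega
  have hox : ∀ f : ι → ℤ, f o ^ 2 + f x ^ 2 ≤ ∑ i, f i ^ 2 := fun f => by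
    have := sq_sum_le f {o, x}
    rwa [Finset.sum_pair hxo.symm] at this
  have sAB : ∑ i, (A i + B i) ^ 2 = 36 := by
    have := h.dot 1 1 0 0 1 1 0 0
    simpa [sq] using this
  have hA : -3 < A x ∧ A x < 3 := by
    have := hox fun i => A i + B i
    simp only [sAB, h.oA, h.oB, ← hAB] at this
    exact small_sq (n := 3) (by push_cast; nlinarith)
  -- neither column takes the value `±2` there
  have hno : ∀ f : ι → ℤ, f o = 1 → ∑ i, f i * f i = 6 → ∑ i, (A i + B i) * f i = 0 →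
      (2 : ℤ) ∣ A x → A x ≠ 0 → ¬ f x ^ 2 = 4 := by
    intro f fo ff Af hev hA0 hf
    have hA4 : A x ^ 2 ≤ 4 := by nlinarith [hA.1, hA.2]
    set V := U.erase x
    have split : ∀ g : ι → ℤ, ∑ i, g i = g o + (g x + ∑ i ∈ V, g i) := fun g => by
      rw [Finset.add_sum_erase _ _ hxU, Finset.add_sum_erase _ _ (Finset.mem_univ o)]
    rw [split, h.oA, h.oB, ← hAB] at sAB
    rw [split, fo, ← sq (f x), hf] at ff
    rw [split, h.oA, h.oB, fo, ← hAB] at Af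
    have h0 : 0 ≤ ∑ i ∈ V, ((A i + B i) - 6 * f i) ^ 2 := Finset.sum_nonneg fun i _ => sq_nonneg _
    have e : ∑ i ∈ V, ((A i + B i) - 6 * f i) ^ 2 = ∑ i ∈ V, (A i + B i) ^ 2 +
        (-12) * ∑ i ∈ V, (A i + B i) * f i + 36 * ∑ i ∈ V, f i * f i := by
      rw [Finset.mul_sum, Finset.mul_sum, ← Finset.sum_add_distrib, ← Finset.sum_add_distrib]
      exact Finset.sum_congr rfl fun i _ => by ring
    rw [e] at h0
    have h0' : 0 ≤ ∑ i ∈ V, ((A i + B i) + 6 * f i) ^ 2 := Finset.sum_nonneg fun i _ => sq_nonneg _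
    have e' : ∑ i ∈ V, ((A i + B i) + 6 * f i) ^ 2 = ∑ i ∈ V, (A i + B i) ^ 2 +
        12 * ∑ i ∈ V, (A i + B i) * f i + 36 * ∑ i ∈ V, f i * f i := by
      rw [Finset.mul_sum, Finset.mul_sum, ← Finset.sum_add_distrib, ← Finset.sum_add_distrib]
      exact Finset.sum_congr rfl fun i _ => by ring
    rw [e'] at h0'
    obtain ⟨a, ha⟩ := hev
    have : f x = 2 ∨ f x = -2 := by
      have : (f x - 2) * (f x + 2) = 0 := by linear_combination hf
      rcases mul_eq_zero.1 this with h' | h' <;> omega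
    have ha' : a = 1 ∨ a = -1 := by omega
    rcases this with h' | h' <;> rcases ha' with rfl | rfl <;>
      simp only [ha, h'] at sAB Af ff <;> norm_num at sAB Af ff <;> omega
  have hR : -3 < R x ∧ R x < 3 := by
    have := hox R
    simp only [sq, h.RR, h.oR] at this
    exact small_sq (n := 3) (by push_cast; nlinarith)
  have hS : -3 < S x ∧ S x < 3 := by
    have := hox S
    simp only [sq, h.SS, h.oS] at this
    exact small_sq (n := 3) (by push_cast; nlinarith)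
  have p1 := h.hAR x
  have p2 := h.hBS x
  have n1 := hno R h.oR h.RR (by simp [add_mul, Finset.sum_add_distrib, h.AR, h.BR])
  have n2 := hno S h.oS h.SS (by simp [add_mul, Finset.sum_add_distrib, h.AS, h.BS])
  refine ⟨x, hxo, σ, hσ, hx1, hx2, hAB.symm, ?_⟩
  by_cases hev : (2 : ℤ) ∣ A x
  · by_cases h0 : A x = 0
    · right; rcases hσ with rfl | rfl <;> omega
    · have r2 : R x ≠ 2 ∧ R x ≠ -2 :=
        ⟨fun h' => n1 hev h0 (by rw [h']; norm_num), fun h' => n1 hev h0 (by rw [h']; norm_num)⟩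
      have s2 : S x ≠ 2 ∧ S x ≠ -2 :=
        ⟨fun h' => n2 hev h0 (by rw [h']; norm_num), fun h' => n2 hev h0 (by rw [h']; norm_num)⟩
      exfalso; rcases hσ with rfl | rfl <;> omega
  · have : R x = σ ∧ S x = σ ∧ (A x = σ ∨ A x = -σ) := by rcases hσ with rfl | rfl <;> omega
    obtain ⟨e1, e2, e3 | e3⟩ := this
    · exact Or.inl ⟨e3, e1, e2⟩
    · right; rw [e1, e2, e3]; rcases hσ with rfl | rfl <;> norm_num

variable {e d : ι → ℚ}

/-- The form of a combination with four units, read at one of them. -/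
theorem form_at (f : ι → ℤ) {o x : ι} (hox : x ≠ o) (ho : f o ^ 2 = 1) (hx : f x ^ 2 = 1)
    (hs : ∑ i, f i ^ 2 = 4) (d z₁ z₂ : ι → ℚ) (hd : ∀ i, d i ≠ 0) (hdo : d o = 1)
    (hfd : ∑ i, (f i : ℚ) * d i = 0) (hf1 : ∑ i, (f i : ℚ) * z₁ i = 0)
    (hf2 : ∑ i, (f i : ℚ) * z₂ i = 0) (hz1 : z₁ o = 0) (hz2 : z₂ o = 0) {P M Q : ℚ}
    (hP : ∑ i, (f i : ℚ) * (z₁ i * z₁ i / d i) = P) (hM : ∑ i, (f i : ℚ) * (z₁ i * z₂ i / d i) = M)
    (hQ : ∑ i, (f i : ℚ) * (z₂ i * z₂ i / d i) = Q) :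
    Q * z₁ x ^ 2 - 2 * M * (z₁ x * z₂ x) + P * z₂ x ^ 2 =
      (P * Q - M ^ 2) * ((f x : ℚ) * d x * (-(f o : ℚ) - f x * d x)) / -(f o : ℚ) := by
  obtain ⟨p, q, hpo, hqo, hpx, hqx, hpq, hp, hq, hz⟩ := exists_support f hox ho hx hs
  have hsum : ∀ g : ι → ℚ, ∑ i, (f i : ℚ) * g i =
      f o * g o + f x * g x + f p * g p + f q * g q := by
    intro g
    rw [← Finset.sum_subset (Finset.subset_univ {o, x, p, q}) fun i _ hi => by
      simp only [Finset.mem_insert, Finset.mem_singleton, not_or] at hi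
      simp [hz i hi.1 hi.2.1 hi.2.2.1 hi.2.2.2]]
    rw [Finset.sum_insert (by simp [hox.symm, hpo.symm, hqo.symm]),
      Finset.sum_insert (by simp [hpx.symm, hqx.symm]), Finset.sum_pair hpq]
    ring
  rw [hsum, hdo] at hfd
  rw [hsum, hz1] at hf1
  rw [hsum, hz2] at hf2
  rw [hsum, hz1] at hP
  rw [hsum, hz1, hz2] at hM
  rw [hsum, hz2] at hQ
  have sq1 : ∀ i, f i ^ 2 = 1 → (f i : ℚ) * f i = 1 := fun i hi => by
    rw [← sq]; exact_mod_cast hi
  -- pass to the signed quantities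
  obtain ⟨D₀, D₁, D₂, a₀, a₁, a₂, b₀, b₁, b₂, hD₀, hD₁, hD₂, ha₀, ha₁, ha₂, hb₀, hb₁, hb₂⟩ :
      ∃ D₀ D₁ D₂ a₀ a₁ a₂ b₀ b₁ b₂ : ℚ, D₀ = f x * d x ∧ D₁ = f p * d p ∧ D₂ = f q * d q ∧
        a₀ = f x * z₁ x ∧ a₁ = f p * z₁ p ∧ a₂ = f q * z₁ q ∧
        b₀ = f x * z₂ x ∧ b₁ = f p * z₂ p ∧ b₂ = f q * z₂ q :=
    ⟨_, _, _, _, _, _, _, _, _, rfl, rfl, rfl, rfl, rfl, rfl, rfl, rfl, rfl⟩
  have key : ∀ (i : ι) (u v : ℚ), f i ^ 2 = 1 →
      (f i : ℚ) * (u * v / d i) = (f i * u) * (f i * v) / (f i * d i) := by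
    intro i u v hi
    have hne : (f i : ℚ) ≠ 0 := fun e0 => by have := sq1 i hi; simp [e0] at this
    field_simp
  rw [key x _ _ hx, key p _ _ hp, key q _ _ hq, ← hD₀, ← hD₁, ← hD₂, ← ha₀, ← ha₁, ← ha₂] at hP
  rw [key x _ _ hx, key p _ _ hp, key q _ _ hq, ← hD₀, ← hD₁, ← hD₂, ← ha₀, ← ha₁, ← ha₂,
    ← hb₀, ← hb₁, ← hb₂] at hM
  rw [key x _ _ hx, key p _ _ hp, key q _ _ hq, ← hD₀, ← hD₁, ← hD₂, ← hb₀, ← hb₁, ← hb₂] at hQ
  have hne : ∀ i, f i ^ 2 = 1 → (f i : ℚ) * d i ≠ 0 := fun i hi =>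
    mul_ne_zero (fun e0 => by have := sq1 i hi; simp [e0] at this) (hd i)
  have n0 : D₀ ≠ 0 := hD₀ ▸ hne x hx
  have n1 : D₁ ≠ 0 := hD₁ ▸ hne p hp
  have n2 : D₂ ≠ 0 := hD₂ ▸ hne q hq
  have lhs : Q * z₁ x ^ 2 - 2 * M * (z₁ x * z₂ x) + P * z₂ x ^ 2 =
      Q * a₀ ^ 2 - 2 * M * (a₀ * b₀) + P * b₀ ^ 2 := by
    rw [ha₀, hb₀]
    linear_combination (-(Q * z₁ x ^ 2 - 2 * M * (z₁ x * z₂ x) + P * z₂ x ^ 2)) * sq1 x hx
  rw [lhs, ← hD₀]
  have hso : (f o : ℚ) ≠ 0 := fun e0 => by have := sq1 o ho; simp [e0] at this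
  simp only [mul_zero, zero_div, zero_mul, zero_add] at hP hM hQ hf1 hf2
  have e1 : a₂ = -a₀ - a₁ := by linear_combination hf1 + ha₂ + ha₀ + ha₁
  have e2 : b₂ = -b₀ - b₁ := by linear_combination hf2 + hb₂ + hb₀ + hb₁
  have e3 : -(f o : ℚ) = D₀ + D₁ + D₂ := by linear_combination -hfd - hD₀ - hD₁ - hD₂
  have e3' : D₀ + D₁ + D₂ ≠ 0 := e3 ▸ neg_ne_zero.2 hso
  rw [e3, ← hP, ← hM, ← hQ, e1, e2]
  field_simp
  ring

end Cfsg.Agent.ThreeWreath
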