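import Cfsg.Agent.ThreeKlein.Main
import Mathlib.GroupTheory.SemidirectProduct
import Mathlib.GroupTheory.Sylow

/-!
# A self-centralising elementary group of order nine with normalizer `D₃ ≀ 2`

The model, the computations in it, and the local facts about a group containing it.
-/

set_option autoImplicit false

namespace Cfsg.Agent.ThreeWreath

open Subgroup

/-- Exchange of the two dihedral factors. -/
def swapHom : Multiplicative (ZMod 2) →* MulAut ThreeKlein.M0 where
  toFun k := if k = 1 then 1 else MulEquiv.prodComm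
  map_one' := if_pos rfl
  map_mul' := by
    intro x y
    refine MulEquiv.ext fun m => ?_
    revert x y m
    decide +kernel

/-- The model of the normalizer, of order seventy-two. -/
abbrev M1 : Type := ThreeKlein.M0 ⋊[swapHom] Multiplicative (ZMod 2)

instance instFintypeM1 : Fintype M1 := Fintype.ofEquiv _ SemidirectProduct.equivProd.symm

/-- Membership in the Sylow subgroup. -/
def inT (m : M1) : Bool := ThreeKlein.inT m.left && (m.right == 1)

/-- Elements whose `3`-part is nontrivial. -/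
def inD (m : M1) : Bool := m ^ 4 != 1

/-- `(r, 1)` -/
def ga : M1 := SemidirectProduct.inl (.r 1, 1)
/-- `(r, r)` -/
def gb : M1 := SemidirectProduct.inl (.r 1, .r 1)
/-- `(r, s)` -/
def gR : M1 := SemidirectProduct.inl (.r 1, .sr 0)
/-- The exchange. -/
def gW : M1 := SemidirectProduct.inr (Multiplicative.ofAdd 1)
/-- `(r, r)` times the exchange -/
def gS : M1 := gb * gW
/-- `(1, s)` -/
def gA : M1 := SemidirectProduct.inl (1, .sr 0)
/-- `(s, s)` -/
def gC : M1 := SemidirectProduct.inl (.sr 0, .sr 0)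

/-- The involutions of each of the three classes: `0` for `(1,s)`, `1` for the exchange, `2` for
`(s,s)`, `3` for everything else. -/
def ty (m : M1) : Fin 4 :=
  if m * m = 1 ∧ m ≠ 1 then
    if m.right = 1 then
      match ThreeKlein.isRot m.left.1, ThreeKlein.isRot m.left.2 with
      | false, false => 2
      | _, _ => 0
    else 1
  else 3

/-- A representative of each class. -/
def rep : Fin 3 → M1
  | 0 => gA
  | 1 => gW
  | 2 => gC

theorem ty_spec : ∀ m : M1, m * m = 1 → m ≠ 1 → ∃ i : Fin 3, ty m = i.castSucc ∧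
    ∃ k, k * rep i * k⁻¹ = m := by decide +kernel

theorem ty_three : ∀ m : M1, ty m ≠ 3 → m * m = 1 ∧ m ≠ 1 := by decide +kernel

theorem ty_rep : ∀ i : Fin 3, ty (rep i) = i.castSucc := by decide +kernel

theorem rep_inv : ∀ i : Fin 3, rep i * rep i = 1 ∧ rep i ≠ 1 := by decide +kernel

/-- Number of ways to write `z` as a product from two unions of classes. -/
def cnt (p q : Fin 4 → Bool) (z : M1) : ℕ :=
  (Finset.univ.filter fun m : M1 => p (ty m) && q (ty (m * z))).card

/-- The four classes with nontrivial `3`-part. -/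
def col : Fin 4 → M1
  | 0 => ga
  | 1 => gb
  | 2 => gR
  | 3 => gS

theorem col_inD : ∀ j, inD (col j) = true := by decide +kernel

theorem col_card : ∀ j, (Finset.univ.filter fun m : M1 => m * col j = col j * m).card =
    match j with | 0 => 18 | 1 => 18 | 2 => 6 | 3 => 6 := by decide +kernel

theorem col_not_conj : ∀ i j : Fin 4, i ≠ j → ∀ k : M1, k * col i * k⁻¹ ≠ col j := by
  decide +kernel

theorem col_real : ∀ j, ∃ k : M1, k * col j * k⁻¹ = (col j)⁻¹ := by decide +kernel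

theorem col_six : ∀ j, col j ^ 6 = 1 := by decide +kernel

theorem col_pow : ga ^ 3 = 1 ∧ gb ^ 3 = 1 ∧ gR ^ 3 = gA ∧ gS ^ 3 = gW ∧ gR ^ 4 = ga ∧
    gS ^ 4 = gb ∧ ga ^ 4 = ga ∧ gb ^ 4 = gb := by decide +kernel

theorem inD_pow : ∀ m : M1, inD m = true → inT (m ^ 4) = true ∧ m ^ 4 ≠ 1 ∧ m * m ≠ 1 := by
  decide +kernel

theorem inD_inv : ∀ m : M1, inD m = true → inD m⁻¹ = true := by decide +kernel

theorem inT_cube : ∀ m : M1, (m ^ 3 = 1 ↔ inT m = true) := by decide +kernel

theorem inT_sq_ne : ∀ m : M1, inT m = true → m ≠ 1 → m * m ≠ 1 := by decide +kernel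

theorem inT_comm : ∀ i j : M1, inT i = true → inT j = true → i * j = j * i := by decide +kernel

theorem card_inT : (Finset.univ.filter fun m : M1 => inT m).card = 9 := by decide +kernel

theorem card_M1 : Fintype.card M1 = 72 := by decide +kernel

theorem cent_A : gA * ga = ga * gA ∧ gW * gb = gb * gW ∧ inT ga = true ∧ inT gb = true ∧
    ga ≠ 1 ∧ gb ≠ 1 := by decide +kernel

theorem norm_A : (Finset.univ.filter fun k : M1 =>
      k * gA == gA * k && (k * ga * k⁻¹ == ga || k * ga * k⁻¹ == ga⁻¹)).card = 12 ∧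
    (Finset.univ.filter fun k : M1 =>
      k * gW == gW * k && (k * gb * k⁻¹ == gb || k * gb * k⁻¹ == gb⁻¹)).card = 12 := by
  decide +kernel

theorem not_conj_pow : ∀ k : M1, k * ga * k⁻¹ ≠ gb ∧ k * ga * k⁻¹ ≠ gb⁻¹ := by decide +kernel

theorem noncomm : gA * gW ≠ gW * gA := by decide +kernel

universe u

variable {G : Type u} [Group G]

/-- `T` and the embedding `φ` of the model onto its normalizer. -/
structure Cfg (T : Sylow 3 G) (φ : M1 →* G) : Prop where
  inj : Function.Injective φ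
  range_eq : φ.range = normalizer ((T : Subgroup G) : Set G)
  mem_T : ∀ m, φ m ∈ (T : Subgroup G) ↔ inT m = true
  cent : centralizer ((T : Subgroup G) : Set G) = T
  loc : ∀ t ∈ (T : Subgroup G), t ≠ 1 → centralizer ({t} : Set G) ≤ φ.range

variable [Finite G] {T : Sylow 3 G} {φ : M1 →* G}

theorem Cfg.ne_one (h : Cfg T φ) {m : M1} (hm : m ≠ 1) : φ m ≠ 1 := fun e =>
  hm (h.inj (e.trans φ.map_one.symm))

theorem Cfg.exists_T (h : Cfg T φ) {t : G} (ht : t ∈ (T : Subgroup G)) :
    ∃ m, inT m = true ∧ φ m = t := by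
  obtain ⟨m, rfl⟩ : t ∈ φ.range := h.range_eq ▸ le_normalizer ht
  exact ⟨m, (h.mem_T m).1 ht, rfl⟩

theorem Cfg.cube (h : Cfg T φ) {z : G} (hz : z ∈ φ.range) (h3 : z ^ 3 = 1) :
    z ∈ (T : Subgroup G) := by
  obtain ⟨m, rfl⟩ := hz
  exact (h.mem_T m).2 ((inT_cube m).1 (h.inj (by rw [map_pow, h3, map_one])))

theorem Cfg.T_cube (h : Cfg T φ) {t : G} (ht : t ∈ (T : Subgroup G)) : t ^ 3 = 1 := by
  obtain ⟨m, hm, rfl⟩ := h.exists_T ht
  rw [← map_pow, (inT_cube m).2 hm, map_one]

/-- Fusion in `T` happens in the normalizer. -/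
theorem Cfg.fus (h : Cfg T φ) {g t : G} (ht : t ∈ (T : Subgroup G)) (ht1 : t ≠ 1)
    (hgt : g * t * g⁻¹ ∈ (T : Subgroup G)) : g ∈ φ.range := by
  rw [h.range_eq]
  refine mem_normalizer_fintype fun n hn => ?_
  refine h.cube (h.loc _ hgt (fun e => ht1 (conj_eq_one_iff.1 e)) ?_) ?_
  · rw [mem_centralizer_singleton_iff]
    obtain ⟨i, hi, rfl⟩ := h.exists_T ht
    obtain ⟨j, hj, rfl⟩ := h.exists_T hn
    have : i * j = j * i := inT_comm i j hi hj
    calc g * φ j * g⁻¹ * (g * φ i * g⁻¹) = g * φ (j * i) * g⁻¹ := by rw [map_mul]; group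
      _ = g * φ (i * j) * g⁻¹ := by rw [this]
      _ = _ := by rw [map_mul]; group
  · rw [conj_pow, h.T_cube hn]; group

/-- Conjugation carrying a special element into the model comes from the normalizer. -/
theorem Cfg.fusD (h : Cfg T φ) {g : G} {m m' : M1} (hm : inD m = true) (hm' : inD m' = true)
    (hg : g * φ m * g⁻¹ = φ m') : g ∈ φ.range := by
  obtain ⟨h1, h2, -⟩ := inD_pow m hm
  refine h.fus ((h.mem_T _).2 h1) (h.ne_one h2) ?_
  rw [map_pow, ← conj_pow, hg, ← map_pow]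
  exact (h.mem_T _).2 (inD_pow m' hm').1

/-- Centralizer orders of special elements. -/
theorem Cfg.card_cent (h : Cfg T φ) {m : M1} (hm : inD m = true) :
    Nat.card (centralizer ({φ m} : Set G)) = (Finset.univ.filter fun x : M1 => x * m = m * x).card := by
  rw [← Fintype.card_subtype, ← Nat.card_eq_fintype_card]
  refine (Nat.card_eq_of_bijective (fun x : {x : M1 // x * m = m * x} =>
    (⟨φ x.1, by rw [mem_centralizer_singleton_iff, ← map_mul, x.2, map_mul]⟩ :
      centralizer ({φ m} : Set G))) ⟨?_, ?_⟩).symm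
  · intro x y e
    exact Subtype.ext (h.inj (congrArg Subtype.val e))
  · rintro ⟨g, hg⟩
    rw [mem_centralizer_singleton_iff] at hg
    obtain ⟨x, rfl⟩ := h.fusD hm hm (g := g) (by rw [hg, mul_inv_cancel_right])
    exact ⟨⟨x, h.inj (by rw [map_mul, map_mul, hg])⟩, rfl⟩

omit [Finite G] in
theorem isConj_map {x y : M1} (φ : M1 →* G) (hk : ∃ k, k * x * k⁻¹ = y) : IsConj (φ x) (φ y) := by
  obtain ⟨k, rfl⟩ := hk
  exact isConj_iff.2 ⟨φ k, by simp⟩

theorem Cfg.col_conj (h : Cfg T φ) {i j : Fin 4} (hij : i ≠ j) :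
    ¬ IsConj (φ (col i)) (φ (col j)) := by
  intro e
  obtain ⟨g, hg⟩ := isConj_iff.1 e
  obtain ⟨k, rfl⟩ := h.fusD (col_inD i) (col_inD j) hg
  exact col_not_conj i j hij k (h.inj (by simpa using hg))

theorem Cfg.card_T (h : Cfg T φ) : Nat.card (T : Subgroup G) = 9 := by
  rw [← card_inT, ← Fintype.card_subtype, ← Nat.card_eq_fintype_card]
  refine (Nat.card_eq_of_bijective (fun x : {m : M1 // inT m = true} =>
    (⟨φ x.1, (h.mem_T _).2 x.2⟩ : (T : Subgroup G))) ⟨?_, ?_⟩).symm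
  · intro x y e
    exact Subtype.ext (h.inj (congrArg Subtype.val e))
  · rintro ⟨t, ht⟩
    obtain ⟨m, hm, rfl⟩ := h.exists_T ht
    exact ⟨⟨m, hm⟩, rfl⟩

/-- An involution is centralised by no Sylow `3`-subgroup. -/
theorem Cfg.not_nine_dvd (h : Cfg T φ) {u : G} (hu : u * u = 1) (hu1 : u ≠ 1) :
    ¬ 9 ∣ Nat.card (centralizer ({u} : Set G)) := by
  intro hd
  obtain ⟨K, hK⟩ := Sylow.exists_subgroup_card_pow_prime 3 (G := centralizer ({u} : Set G)) (n := 2) hd
  have hcard : Nat.card (K.map (centralizer ({u} : Set G)).subtype) = 3 ^ 2 := by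
    rw [Subgroup.card_map_of_injective (subtype_injective _), hK]
  obtain ⟨Q, hQ⟩ := (IsPGroup.of_card hcard).exists_le_sylow
  obtain ⟨g, hg⟩ := MulAction.exists_smul_eq G T Q
  have hTu : ∀ t ∈ (T : Subgroup G), g * t * g⁻¹ ∈ centralizer ({u} : Set G) := by
    intro t ht
    have hQT : g * t * g⁻¹ ∈ (Q : Subgroup G) := by
      rw [← hg]
      exact Subgroup.smul_mem_pointwise_smul t (MulAut.conj g) _ ht
    have heq : K.map (centralizer ({u} : Set G)).subtype = (Q : Subgroup G) :=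
      eq_of_le_of_card_ge hQ (by rw [hcard, Q.card_eq_multiplicity, ← T.card_eq_multiplicity, h.card_T]; norm_num)
    exact map_subtype_le K (heq ▸ hQT)
  have hmem : g⁻¹ * u * g ∈ centralizer ((T : Subgroup G) : Set G) := mem_centralizer_iff.2 fun t ht => by
    have := mem_centralizer_singleton_iff.1 (hTu t ht)
    calc t * (g⁻¹ * u * g) = g⁻¹ * ((g * t * g⁻¹) * u) * g := by group
      _ = g⁻¹ * (u * (g * t * g⁻¹)) * g := by rw [this]
      _ = _ := by group
  rw [h.cent] at hmem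
  obtain ⟨m, hm, hmu⟩ := h.exists_T hmem
  refine inT_sq_ne m hm (fun e => hu1 ?_) (h.inj ?_)
  · rw [e, map_one] at hmu
    calc u = g * (g⁻¹ * u * g) * g⁻¹ := by group
      _ = 1 := by rw [← hmu]; group
  · rw [map_mul, map_one, hmu]
    calc g⁻¹ * u * g * (g⁻¹ * u * g) = g⁻¹ * (u * u) * g := by group
      _ = 1 := by rw [hu]; group

/-- The subgroup of order three fixed by an involution is a Sylow subgroup of its centralizer, and
the centralizer order is determined modulo `36`. -/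
theorem Cfg.sylow_cent (h : Cfg T φ) {v a : M1} (hv : v * v = 1) (hv1 : v ≠ 1) (hva : v * a = a * v)
    (haT : inT a = true) (ha1 : a ≠ 1) :
    (∀ x : G, x ^ 3 = 1 → x ∈ centralizer ({φ v} : Set G) →
      ∃ y ∈ centralizer ({φ v} : Set G), y * x * y⁻¹ ∈ zpowers (φ a)) ∧
    ((Finset.univ.filter fun k : M1 =>
      k * v == v * k && (k * a * k⁻¹ == a || k * a * k⁻¹ == a⁻¹)).card = 12 →
      Nat.card (centralizer ({φ v} : Set G)) % 36 = 12) := by
  classical
  have hu : φ v * φ v = 1 := by rw [← map_mul, hv, map_one]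
  set C := centralizer ({φ v} : Set G) with hCdef
  have haC : φ a ∈ C := mem_centralizer_singleton_iff.2 (by rw [← map_mul, ← map_mul, hva])
  have hoa : orderOf (φ a) = 3 :=
    orderOf_eq_prime (h.T_cube ((h.mem_T a).2 haT)) (h.ne_one ha1)
  let Z : Subgroup C := zpowers ⟨φ a, haC⟩
  have hZc : Nat.card Z = 3 := by rw [Nat.card_zpowers, ← Subgroup.orderOf_coe, hoa]
  obtain ⟨P, hP⟩ := (IsPGroup.of_card (p := 3) (n := 1) (by rw [hZc, pow_one])).exists_le_sylow
  have hPZ : Z = (P : Subgroup C) := by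
    refine eq_of_le_of_card_ge hP ?_
    obtain ⟨n, hn⟩ := P.2.exists_card_eq
    have : n < 2 := by
      by_contra hn2
      exact h.not_nine_dvd hu (h.ne_one hv1)
        ((pow_dvd_pow 3 (not_lt.1 hn2)).trans (hn ▸ Subgroup.card_subgroup_dvd_card _))
    rw [hn, hZc]
    exact (Nat.pow_le_pow_right (by norm_num) (Nat.lt_succ_iff.1 this)).trans (by norm_num)
  refine ⟨fun x hx hxC => ?_, fun h12 => ?_⟩
  · have hp : IsPGroup 3 (zpowers (⟨x, hxC⟩ : C)) := by
      rintro ⟨y, k, rfl⟩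
      refine ⟨1, Subtype.ext ?_⟩
      show ((⟨x, hxC⟩ : C) ^ k) ^ (3 ^ 1) = 1
      rw [pow_one, ← zpow_natCast, ← zpow_mul, mul_comm, zpow_mul, zpow_natCast,
        show (⟨x, hxC⟩ : C) ^ 3 = 1 from Subtype.ext hx, one_zpow]
    obtain ⟨Q, hQ⟩ := hp.exists_le_sylow
    obtain ⟨y, hy⟩ := MulAction.exists_smul_eq C Q P
    refine ⟨y, y.2, ?_⟩
    have h1 : y * (⟨x, hxC⟩ : C) * y⁻¹ ∈ Z := by
      rw [hPZ, ← hy]
      exact Subgroup.smul_mem_pointwise_smul _ (MulAut.conj y) _ (hQ (mem_zpowers _))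
    obtain ⟨k, hk⟩ := h1
    exact ⟨k, by simpa using congrArg Subtype.val hk⟩
  · have hN : Nat.card (normalizer ((P : Subgroup C) : Set C)) = 12 := by
      rw [← hPZ, ← h12, ← Fintype.card_subtype, ← Nat.card_eq_fintype_card]
      let S := {k : M1 // (k * v == v * k && (k * a * k⁻¹ == a || k * a * k⁻¹ == a⁻¹)) = true}
      have hS : ∀ k : S, φ k.1 ∈ C ∧ ((k.1 * a * k.1⁻¹ = a ∨ k.1 * a * k.1⁻¹ = a⁻¹)) := fun k => by
        obtain ⟨k, hk⟩ := k
        simp only [Bool.and_eq_true, Bool.or_eq_true, beq_iff_eq] at hk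
        exact ⟨mem_centralizer_singleton_iff.2 (by rw [← map_mul, ← map_mul, hk.1]), hk.2⟩
      refine (Nat.card_eq_of_bijective (fun k : S => (⟨⟨φ k.1, (hS k).1⟩, ?_⟩ :
        normalizer ((Z : Subgroup C) : Set C))) ⟨?_, ?_⟩).symm
      · refine mem_normalizer_fintype fun n hn => ?_
        obtain ⟨i, rfl⟩ := hn
        show (⟨φ k.1, (hS k).1⟩ : C) * (⟨φ a, haC⟩ : C) ^ i * (⟨φ k.1, (hS k).1⟩ : C)⁻¹ ∈ Z
        rw [← conj_zpow]
        refine zpow_mem ?_ i
        rcases (hS k).2 with e | e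
        · exact ⟨1, Subtype.ext (by simp [← map_mul, ← map_inv, e])⟩
        · exact ⟨-1, Subtype.ext (by simp [← map_mul, ← map_inv, e])⟩
      · intro k k' e
        exact Subtype.ext (h.inj (congrArg Subtype.val (congrArg Subtype.val e)))
      · rintro ⟨⟨g, hgC⟩, hg⟩
        obtain ⟨i, hi⟩ := (mem_normalizer_iff.1 hg ⟨φ a, haC⟩).1 (mem_zpowers _)
        have hi' : φ a ^ i = g * φ a * g⁻¹ := by simpa using congrArg Subtype.val hi
        obtain ⟨k, rfl⟩ : g ∈ φ.range := h.fus ((h.mem_T a).2 haT) (h.ne_one ha1)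
          (hi' ▸ zpow_mem ((h.mem_T a).2 haT) i)
        refine ⟨⟨k, ?_⟩, rfl⟩
        simp only [Bool.and_eq_true, Bool.or_eq_true, beq_iff_eq]
        refine ⟨h.inj (by rw [map_mul, map_mul]; exact mem_centralizer_singleton_iff.1 hgC), ?_⟩
        rw [← zpow_mod_orderOf, hoa] at hi'
        have h3 : i % (3 : ℕ) = 0 ∨ i % (3 : ℕ) = 1 ∨ i % (3 : ℕ) = 2 := by omega
        rcases h3 with e | e | e <;> rw [e] at hi'
        · exfalso
          rw [zpow_zero, eq_comm, conj_eq_one_iff] at hi'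
          exact h.ne_one ha1 hi'
        · left; refine h.inj ?_; rw [zpow_one] at hi'; simp only [map_mul, map_inv]; exact hi'.symm
        · right; refine h.inj ?_
          simp only [map_mul, map_inv]
          rw [← hi', eq_inv_iff_mul_eq_one, ← zpow_add_one]
          exact (zpow_natCast (φ a) 3).trans (h.T_cube ((h.mem_T a).2 haT))
    have h1 : Nat.card (Sylow 3 C) % 3 = 1 := card_sylow_modEq_one 3 C
    rw [P.card_eq_index_normalizer] at h1
    have h2 := (normalizer ((P : Subgroup C) : Set C)).card_mul_index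
    rw [hN] at h2
    change (normalizer ((P : Subgroup C) : Set C)).index % 3 = 1 at h1
    omega

/-- The classes of the exchange and of `(1, s)` are distinct. -/
theorem Cfg.not_conj_A_W (h : Cfg T φ) : ¬ IsConj (φ gA) (φ gW) := by
  intro e
  obtain ⟨g, hg⟩ := isConj_iff.1 e
  obtain ⟨c1, c2, c3, c4, c5, c6⟩ := cent_A
  obtain ⟨y, hy, hy'⟩ := (h.sylow_cent (rep_inv 1).1 (rep_inv 1).2 c2 c4 c6).1 (g * φ ga * g⁻¹)
    (by rw [conj_pow, h.T_cube ((h.mem_T _).2 c3)]; group) (mem_centralizer_singleton_iff.2 (by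
      show g * φ ga * g⁻¹ * φ gW = φ gW * (g * φ ga * g⁻¹)
      rw [← hg]
      calc g * φ ga * g⁻¹ * (g * φ gA * g⁻¹) = g * φ (ga * gA) * g⁻¹ := by rw [map_mul]; group
        _ = g * φ (gA * ga) * g⁻¹ := by rw [c1]
        _ = _ := by rw [map_mul]; group))
  obtain ⟨i, hi⟩ := hy'
  change φ gb ^ i = y * (g * φ ga * g⁻¹) * y⁻¹ at hi
  have hT : φ gb ^ i ∈ (T : Subgroup G) := zpow_mem ((h.mem_T _).2 c4) i
  rw [hi] at hT
  obtain ⟨k, hk⟩ := h.fus (g := y * g) ((h.mem_T _).2 c3) (h.ne_one c5) (by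
    convert hT using 1; group)
  have hk' : φ (k * ga * k⁻¹) = φ gb ^ i := by rw [hi, map_mul, map_mul, map_inv, hk]; group
  have hob : orderOf (φ gb) = 3 := orderOf_eq_prime (h.T_cube ((h.mem_T _).2 c4)) (h.ne_one c6)
  rw [← zpow_mod_orderOf, hob] at hk'
  have h3 : i % (3 : ℕ) = 0 ∨ i % (3 : ℕ) = 1 ∨ i % (3 : ℕ) = 2 := by omega
  rcases h3 with e | e | e <;> rw [e] at hk'
  · rw [zpow_zero, ← map_one φ] at hk'
    exact c5 (conj_eq_one_iff.1 (h.inj hk'))
  · rw [zpow_one] at hk'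
    exact (not_conj_pow k).1 (h.inj hk')
  · refine (not_conj_pow k).2 (h.inj ?_)
    rw [hk', map_inv, eq_inv_iff_mul_eq_one, ← zpow_add_one]
    exact (zpow_natCast (φ gb) 3).trans (h.T_cube ((h.mem_T _).2 c4))

end Cfsg.Agent.ThreeWreath
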